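import Mathlib

set_option autoImplicit false

namespace Cfsg.Agent.Lib.Helper21

open Subgroup

variable {G : Type*} [Group G]

theorem mem_map_conj {H : Subgroup G} {g x : G} :
    x ∈ H.map (MulAut.conj g).toMonoidHom ↔ g⁻¹ * x * g ∈ H := by
  constructor
  · rintro ⟨y, hy, rfl⟩
    have : g⁻¹ * ((MulAut.conj g).toMonoidHom y) * g = y := by
      simp [MulAut.conj_apply, mul_assoc]
    rw [this]; exact hy
  · intro hx
    refine ⟨g⁻¹ * x * g, hx, ?_⟩
    simp [MulAut.conj_apply, mul_assoc]

theorem conj_mem_map_conj {H : Subgroup G} {g x : G} (hx : x ∈ H) :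
    g * x * g⁻¹ ∈ H.map (MulAut.conj g).toMonoidHom := by
  rw [mem_map_conj]
  have : g⁻¹ * (g * x * g⁻¹) * g = x := by group
  rw [this]; exact hx

theorem map_conj_mul (H : Subgroup G) (g₁ g₂ : G) :
    H.map (MulAut.conj (g₁ * g₂)).toMonoidHom
      = (H.map (MulAut.conj g₂).toMonoidHom).map (MulAut.conj g₁).toMonoidHom := by
  ext x
  simp only [mem_map_conj]
  have : (g₁ * g₂)⁻¹ * x * (g₁ * g₂) = g₂⁻¹ * (g₁⁻¹ * x * g₁) * g₂ := by group
  rw [this]

theorem map_conj_one (H : Subgroup G) : H.map (MulAut.conj (1 : G)).toMonoidHom = H := by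
  ext x
  rw [mem_map_conj]
  simp

theorem map_conj_eq_self_of_mem_normalizer {H : Subgroup G} {g : G}
    (hg : g ∈ normalizer (H : Set G)) : H.map (MulAut.conj g).toMonoidHom = H := by
  ext x
  rw [mem_map_conj]
  have hg' : g⁻¹ ∈ normalizer (H : Set G) := inv_mem hg
  rw [mem_normalizer_iff] at hg'
  have := hg' x
  rw [inv_inv] at this
  exact this.symm

theorem mem_normalizer_of_map_conj_eq_self {H : Subgroup G} {g : G}
    (hg : H.map (MulAut.conj g).toMonoidHom = H) : g ∈ normalizer (H : Set G) := by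
  rw [mem_normalizer_iff]
  intro x
  constructor
  · intro hx
    rw [← hg]; exact conj_mem_map_conj hx
  · intro hx
    rw [← hg, mem_map_conj] at hx
    have : g⁻¹ * (g * x * g⁻¹) * g = x := by group
    rw [this] at hx; exact hx

theorem mem_normalizer_iff_map_conj {H : Subgroup G} {g : G} :
    g ∈ normalizer (H : Set G) ↔ H.map (MulAut.conj g).toMonoidHom = H :=
  ⟨map_conj_eq_self_of_mem_normalizer, mem_normalizer_of_map_conj_eq_self⟩

theorem map_conj_inv_map_conj (H : Subgroup G) (g : G) :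
    (H.map (MulAut.conj g).toMonoidHom).map (MulAut.conj g⁻¹).toMonoidHom = H := by
  rw [← map_conj_mul, inv_mul_cancel, map_conj_one]

theorem map_conj_map_conj_inv (H : Subgroup G) (g : G) :
    (H.map (MulAut.conj g⁻¹).toMonoidHom).map (MulAut.conj g).toMonoidHom = H := by
  rw [← map_conj_mul, mul_inv_cancel, map_conj_one]

theorem card_map_conj (H : Subgroup G) (g : G) :
    Nat.card (H.map (MulAut.conj g).toMonoidHom) = Nat.card H := by
  exact Nat.card_congr
    (H.equivMapOfInjective (MulAut.conj g).toMonoidHom (MulAut.conj g).injective).toEquiv.symm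

theorem map_conj_inf (H K : Subgroup G) (g : G) :
    (H ⊓ K).map (MulAut.conj g).toMonoidHom
      = H.map (MulAut.conj g).toMonoidHom ⊓ K.map (MulAut.conj g).toMonoidHom := by
  ext x
  simp only [mem_map_conj, mem_inf]

/-- membership in a conjugate Sylow subgroup -/
theorem mem_sylow_smul {p : ℕ} (P : Sylow p G) (g x : G) :
    x ∈ ((g • P : Sylow p G) : Subgroup G) ↔ g⁻¹ * x * g ∈ (P : Subgroup G) := by
  rw [Sylow.coe_subgroup_smul, Subgroup.mem_pointwise_smul_iff_inv_smul_mem]
  simp [MulAut.smul_def]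

end Cfsg.Agent.Lib.Helper21
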