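import Mathlib
import Cfsg.Prelude.Def_Involutions
import Cfsg.Agent.Lib.Helper21.Conj

/-!
Strongly embedded subgroups: involutions fix exactly one coset, any two involutions are
conjugate, and the number of involutions interchanging two cosets.
-/

set_option autoImplicit false

namespace Cfsg.Agent.Lib.Helper21

open Subgroup

section dihedral

variable {G : Type*} [Group G]

theorem mul_self_of_orderOf_two {a : G} (ha : orderOf a = 2) : a * a = 1 := by
  rw [← pow_two, ← ha, pow_orderOf_eq_one]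

theorem orderOf_two_of_mul_self {a : G} (ha : a * a = 1) (h1 : a ≠ 1) : orderOf a = 2 :=
  orderOf_eq_prime (by rw [pow_two]; exact ha) h1

theorem ne_one_of_orderOf_two {a : G} (ha : orderOf a = 2) : a ≠ 1 := by
  intro h
  rw [h, orderOf_one] at ha
  omega

theorem orderOf_conj_two {a : G} (g : G) (ha : orderOf a = 2) : orderOf (g * a * g⁻¹) = 2 := by
  apply orderOf_two_of_mul_self
  · have h0 := mul_self_of_orderOf_two ha
    calc g * a * g⁻¹ * (g * a * g⁻¹) = g * (a * a) * g⁻¹ := by group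
      _ = 1 := by rw [h0]; group
  · intro h
    apply ne_one_of_orderOf_two ha
    have h1 : a = g⁻¹ * (g * a * g⁻¹) * g := by group
    rw [h1, h]; group

theorem orderOf_conj_two' {a : G} (g : G) (ha : orderOf a = 2) : orderOf (g⁻¹ * a * g) = 2 := by
  have h := orderOf_conj_two g⁻¹ ha
  rwa [inv_inv] at h

/-- Two involutions either commute with a common involution or are conjugate by an element of
square one. -/
theorem dihedral_dichotomy [Finite G] (a b : G) (ha : a * a = 1) (hb : b * b = 1) :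
    (∃ z : G, orderOf z = 2 ∧ z * a = a * z ∧ z * b = b * z) ∨
      (∃ s : G, s * s = 1 ∧ s * a * s⁻¹ = b) := by
  have hai : a⁻¹ = a := inv_eq_of_mul_eq_one_left ha
  have hbi : b⁻¹ = b := inv_eq_of_mul_eq_one_left hb
  have hra : a * (a * b) * a⁻¹ = (a * b)⁻¹ := by
    rw [mul_inv_rev, hai, hbi, ← mul_assoc, ha, one_mul]
  have hrb : b * (a * b) * b⁻¹ = (a * b)⁻¹ := by
    rw [mul_inv_rev, hai, hbi, mul_assoc, mul_assoc, hb, mul_one]
  have hra' : ∀ k : ℕ, a * (a * b) ^ k * a⁻¹ = ((a * b) ^ k)⁻¹ := fun k => by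
    rw [← conj_pow, hra, inv_pow]
  have hrb' : ∀ k : ℕ, b * (a * b) ^ k * b⁻¹ = ((a * b) ^ k)⁻¹ := fun k => by
    rw [← conj_pow, hrb, inv_pow]
  have hn : 0 < orderOf (a * b) := orderOf_pos _
  rcases Nat.even_or_odd' (orderOf (a * b)) with ⟨k, hk | hk⟩
  · left
    have hk0 : 0 < k := by omega
    have hz2 : (a * b) ^ k * (a * b) ^ k = 1 := by
      rw [← pow_add, ← two_mul, ← hk, pow_orderOf_eq_one]
    have hzi : ((a * b) ^ k)⁻¹ = (a * b) ^ k := inv_eq_of_mul_eq_one_left hz2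
    have hz1 : (a * b) ^ k ≠ 1 := by
      intro h
      have h1 := Nat.le_of_dvd hk0 (orderOf_dvd_of_pow_eq_one h)
      omega
    refine ⟨(a * b) ^ k, orderOf_two_of_mul_self hz2 hz1, ?_, ?_⟩
    · have h1 := hra' k
      rw [hzi] at h1
      exact (mul_inv_eq_iff_eq_mul.mp h1).symm
    · have h1 := hrb' k
      rw [hzi] at h1
      exact (mul_inv_eq_iff_eq_mul.mp h1).symm
  · right
    have e1 : a * (a * b) ^ (k + 1) * a = ((a * b) ^ (k + 1))⁻¹ := by
      have h1 := hra' (k + 1)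
      rwa [hai] at h1
    have hss : a * (a * b) ^ (k + 1) * (a * (a * b) ^ (k + 1)) = 1 := by
      calc a * (a * b) ^ (k + 1) * (a * (a * b) ^ (k + 1))
          = (a * (a * b) ^ (k + 1) * a) * (a * b) ^ (k + 1) := by simp only [mul_assoc]
        _ = 1 := by rw [e1, inv_mul_cancel]
    refine ⟨a * (a * b) ^ (k + 1), hss, ?_⟩
    rw [inv_eq_of_mul_eq_one_left hss]
    have hexp : k + 1 + (k + 1) = 2 * k + 1 + 1 := by omega
    calc a * (a * b) ^ (k + 1) * a * (a * (a * b) ^ (k + 1))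
        = a * (a * b) ^ (k + 1) * (a * a) * (a * b) ^ (k + 1) := by simp only [mul_assoc]
      _ = a * ((a * b) ^ (k + 1) * (a * b) ^ (k + 1)) := by rw [ha, mul_one, mul_assoc]
      _ = a * ((a * b) ^ (2 * k + 1) * (a * b)) := by rw [← pow_add, ← pow_succ, hexp]
      _ = a * (a * b) := by rw [← hk, pow_orderOf_eq_one, one_mul]
      _ = b := by rw [← mul_assoc, ha, one_mul]

/-- An automorphism-like involution `u` acting without fixed points on a finite subgroup
inverts it. -/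
theorem inv_of_fixedPointFree (D : Subgroup G) [Finite D] (u : G) (huu : u * u = 1)
    (hnorm : ∀ d ∈ D, u * d * u⁻¹ ∈ D) (hfree : ∀ d ∈ D, u * d = d * u → d = 1) :
    ∀ d ∈ D, u * d * u⁻¹ = d⁻¹ := by
  have hui : u⁻¹ = u := inv_eq_of_mul_eq_one_left huu
  let f : D → D := fun d =>
    ⟨(d : G)⁻¹ * (u * d * u⁻¹), D.mul_mem (D.inv_mem d.2) (hnorm d d.2)⟩
  have hinj : Function.Injective f := by
    intro d e hde
    have h1 : (d : G)⁻¹ * (u * d * u⁻¹) = (e : G)⁻¹ * (u * e * u⁻¹) := congrArg Subtype.val hde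
    have h3 : (e : G) * (d : G)⁻¹ * u = u * e * (d : G)⁻¹ := by
      calc (e : G) * (d : G)⁻¹ * u
          = e * ((d : G)⁻¹ * (u * d * u⁻¹)) * u * (d : G)⁻¹ := by group
        _ = e * ((e : G)⁻¹ * (u * e * u⁻¹)) * u * (d : G)⁻¹ := by rw [h1]
        _ = u * e * (d : G)⁻¹ := by group
    have h2 : u * ((e : G) * (d : G)⁻¹) = (e : G) * (d : G)⁻¹ * u := by
      rw [h3, mul_assoc]
    have h4 := hfree _ (D.mul_mem e.2 (D.inv_mem d.2)) h2
    apply Subtype.ext
    exact (mul_inv_eq_one.mp h4).symm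
  have hsurj : Function.Surjective f := Finite.injective_iff_surjective.mp hinj
  intro d hd
  obtain ⟨e, he⟩ := hsurj ⟨d, hd⟩
  have h1 : (e : G)⁻¹ * (u * e * u⁻¹) = d := congrArg Subtype.val he
  rw [← h1, hui]
  calc u * ((e : G)⁻¹ * (u * e * u)) * u = u * (e : G)⁻¹ * u * e * (u * u) := by group
    _ = u * (e : G)⁻¹ * u * e := by rw [huu, mul_one]
    _ = u⁻¹ * (e : G)⁻¹ * u⁻¹ * e := by rw [hui]
    _ = ((e : G)⁻¹ * (u * e * u))⁻¹ := by group

/-- An element of square one in a subgroup of odd order is trivial. -/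
theorem eq_one_of_sq_eq_one_of_odd {K : Subgroup G} (hodd : Odd (Nat.card K)) {d : G}
    (hd : d ∈ K) (h2 : d ^ 2 = 1) : d = 1 := by
  by_contra h1
  have ho : orderOf d = 2 := orderOf_eq_prime h2 h1
  have h3 := orderOf_dvd_natCard (⟨d, hd⟩ : K)
  rw [Subgroup.orderOf_mk, ho] at h3
  exact (Nat.not_even_iff_odd.mpr hodd) (even_iff_two_dvd.mpr h3)

end dihedral

section se

variable {G : Type*} [Group G] [Finite G] {H : Subgroup G}

theorem se_mem_of_conj_mem (hH : Cfsg.IsStronglyEmbedded H) {t : G} (htH : t ∈ H)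
    (ht : orderOf t = 2) {g : G} (hg : g⁻¹ * t * g ∈ H) : g ∈ H := by
  by_contra hgH
  have hodd := hH.2.2 g hgH
  have hmem : t ∈ H ⊓ H.map (MulAut.conj g).toMonoidHom := ⟨htH, mem_map_conj.mpr hg⟩
  have h2 : 2 ∣ Nat.card ↥(H ⊓ H.map (MulAut.conj g).toMonoidHom) := by
    have h3 := orderOf_dvd_natCard (⟨t, hmem⟩ : ↥(H ⊓ H.map (MulAut.conj g).toMonoidHom))
    rwa [Subgroup.orderOf_mk, ht] at h3
  exact (Nat.not_even_iff_odd.mpr hodd) (even_iff_two_dvd.mpr h2)

theorem se_mem_of_commute (hH : Cfsg.IsStronglyEmbedded H) {t : G} (htH : t ∈ H)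
    (ht : orderOf t = 2) {z : G} (hz : z * t = t * z) : z ∈ H := by
  apply se_mem_of_conj_mem hH htH ht
  have h1 : z⁻¹ * t * z = t := by
    rw [mul_assoc, ← hz, ← mul_assoc, inv_mul_cancel, one_mul]
  rw [h1]; exact htH

theorem se_exists_involution (hH : Cfsg.IsStronglyEmbedded H) : ∃ t ∈ H, orderOf t = 2 := by
  obtain ⟨x, hx⟩ := exists_prime_orderOf_dvd_card' (G := H) 2 (even_iff_two_dvd.mp hH.2.1)
  exact ⟨x, x.2, by rw [Subgroup.orderOf_coe]; exact hx⟩

/-- Every involution is conjugate into a strongly embedded subgroup. -/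
theorem se_exists_conj_mem (hH : Cfsg.IsStronglyEmbedded H) (i : G) (hi : orderOf i = 2) :
    ∃ g : G, g⁻¹ * i * g ∈ H := by
  obtain ⟨t, htH, ht⟩ := se_exists_involution hH
  have hii := mul_self_of_orderOf_two hi
  have htt := mul_self_of_orderOf_two ht
  rcases dihedral_dichotomy t i htt hii with ⟨z, hz, hzt, hzi⟩ | ⟨s, hss, hs⟩
  · have hzH : z ∈ H := se_mem_of_commute hH htH ht hzt
    have hiH : i ∈ H := se_mem_of_commute hH hzH hz hzi.symm
    exact ⟨1, by simpa using hiH⟩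
  · refine ⟨s, ?_⟩
    have h1 : s⁻¹ * i * s = t := by rw [← hs]; group
    rw [h1]; exact htH

/-- An involution inside and an involution outside a strongly embedded subgroup are conjugate
by an involution. -/
theorem se_conj_involution (hH : Cfsg.IsStronglyEmbedded H) {t : G} (htH : t ∈ H)
    (ht : orderOf t = 2) {u : G} (huH : u ∉ H) (hu : orderOf u = 2) :
    ∃ s : G, orderOf s = 2 ∧ s * t * s⁻¹ = u := by
  have huu := mul_self_of_orderOf_two hu
  have htt := mul_self_of_orderOf_two ht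
  rcases dihedral_dichotomy t u htt huu with ⟨z, hz, hzt, hzu⟩ | ⟨s, hss, hs⟩
  · exfalso
    have hzH : z ∈ H := se_mem_of_commute hH htH ht hzt
    exact huH (se_mem_of_commute hH hzH hz hzu.symm)
  · refine ⟨s, orderOf_two_of_mul_self hss ?_, hs⟩
    intro h1
    rw [h1] at hs
    apply huH
    rw [← hs]
    simpa using htH

/-- Two involutions of a strongly embedded subgroup `H` are conjugate under `H ∩ uHu⁻¹` for
any involution `u` outside `H`. -/
theorem se_conj_in_inter (hH : Cfsg.IsStronglyEmbedded H) (u : G) (hu : orderOf u = 2)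
    (huH : u ∉ H) (s t : G) (hs : orderOf s = 2) (hsH : s ∈ H) (ht : orderOf t = 2)
    (htH : t ∈ H) :
    ∃ d ∈ (H ⊓ H.map (MulAut.conj u).toMonoidHom), d * s * d⁻¹ = t := by
  have huu := mul_self_of_orderOf_two hu
  have hui : u⁻¹ = u := inv_eq_of_mul_eq_one_left huu
  have hv2 : orderOf (u * t * u⁻¹) = 2 := orderOf_conj_two u ht
  have hvH : u * t * u⁻¹ ∉ H := by
    intro h
    have h1 : u⁻¹ ∈ H := se_mem_of_conj_mem hH htH ht (by rw [inv_inv]; exact h)
    exact huH ((H.inv_mem_iff).mp h1)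
  obtain ⟨j, hj2, hj⟩ := se_conj_involution hH hsH hs hvH hv2
  have hjj := mul_self_of_orderOf_two hj2
  refine ⟨u⁻¹ * j, Subgroup.mem_inf.mpr ⟨?_, ?_⟩, ?_⟩
  · have h1 : ((u⁻¹ * j)⁻¹)⁻¹ * s * (u⁻¹ * j)⁻¹ = t := by
      rw [inv_inv]
      calc u⁻¹ * j * s * (u⁻¹ * j)⁻¹ = u⁻¹ * (j * s * j⁻¹) * u := by group
        _ = t := by rw [hj]; group
    have h2 : (u⁻¹ * j)⁻¹ ∈ H := se_mem_of_conj_mem hH hsH hs (by rw [h1]; exact htH)
    exact (H.inv_mem_iff).mp h2
  · rw [mem_map_conj]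
    have h0 : u⁻¹ * (u⁻¹ * j) * u = j * u := by rw [hui, ← mul_assoc, huu, one_mul]
    rw [h0]
    have h1 : ((j * u)⁻¹)⁻¹ * t * (j * u)⁻¹ = s := by
      rw [inv_inv]
      calc j * u * t * (j * u)⁻¹ = j * (u * t * u⁻¹) * j⁻¹ := by group
        _ = j * (j * s * j⁻¹) * j⁻¹ := by rw [hj]
        _ = (j * j) * s * (j * j)⁻¹ := by group
        _ = s := by rw [hjj]; group
    have h2 : (j * u)⁻¹ ∈ H := se_mem_of_conj_mem hH htH ht (by rw [h1]; exact hsH)
    exact (H.inv_mem_iff).mp h2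
  · calc u⁻¹ * j * s * (u⁻¹ * j)⁻¹ = u⁻¹ * (j * s * j⁻¹) * u := by group
      _ = t := by rw [hj]; group

/-- All involutions are conjugate if there is an involution outside the strongly embedded
subgroup. -/
theorem se_isConj (hH : Cfsg.IsStronglyEmbedded H) (u : G) (hu : orderOf u = 2) (huH : u ∉ H)
    (a b : G) (ha : orderOf a = 2) (hb : orderOf b = 2) : IsConj a b := by
  obtain ⟨g, hg⟩ := se_exists_conj_mem hH a ha
  obtain ⟨g', hg'⟩ := se_exists_conj_mem hH b hb
  obtain ⟨d, -, hd⟩ := se_conj_in_inter hH u hu huH _ _ (orderOf_conj_two' g ha) hg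
    (orderOf_conj_two' g' hb) hg'
  rw [isConj_iff]
  refine ⟨g' * d * g⁻¹, ?_⟩
  calc g' * d * g⁻¹ * a * (g' * d * g⁻¹)⁻¹ = g' * (d * (g⁻¹ * a * g) * d⁻¹) * g'⁻¹ := by group
    _ = b := by rw [hd]; group

/-! ### The action on cosets -/

theorem smul_mk_eq_mk_iff (H : Subgroup G) (g a b : G) :
    g • (QuotientGroup.mk a : G ⧸ H) = QuotientGroup.mk b ↔ b⁻¹ * g * a ∈ H := by
  rw [MulAction.Quotient.smul_mk, smul_eq_mul, QuotientGroup.eq, ← H.inv_mem_iff]
  have h1 : ((g * a)⁻¹ * b)⁻¹ = b⁻¹ * g * a := by group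
  rw [h1]

theorem se_fixed_unique (hH : Cfsg.IsStronglyEmbedded H) {i : G} (hi : orderOf i = 2)
    {x y : G ⧸ H} (hx : i • x = x) (hy : i • y = y) : x = y := by
  obtain ⟨a, rfl⟩ := QuotientGroup.mk_surjective x
  obtain ⟨b, rfl⟩ := QuotientGroup.mk_surjective y
  rw [smul_mk_eq_mk_iff] at hx hy
  rw [QuotientGroup.eq]
  apply se_mem_of_conj_mem hH hx (orderOf_conj_two' a hi)
  have h1 : (a⁻¹ * b)⁻¹ * (a⁻¹ * i * a) * (a⁻¹ * b) = b⁻¹ * i * b := by group
  rw [h1]; exact hy

theorem se_exists_fixed (hH : Cfsg.IsStronglyEmbedded H) {i : G} (hi : orderOf i = 2) :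
    ∃ x : G ⧸ H, i • x = x := by
  obtain ⟨g, hg⟩ := se_exists_conj_mem hH i hi
  exact ⟨QuotientGroup.mk g, (smul_mk_eq_mk_iff H i g g).mpr hg⟩

theorem se_count_smul (H : Subgroup G) (g : G) (x y : G ⧸ H) :
    Nat.card {i : G // orderOf i = 2 ∧ i • (g • x) = g • y}
      = Nat.card {i : G // orderOf i = 2 ∧ i • x = y} := by
  apply Nat.card_congr
  refine
    { toFun := fun i => ⟨g⁻¹ * i.1 * g, orderOf_conj_two' g i.2.1, by
        rw [mul_smul, mul_smul, i.2.2, inv_smul_smul]⟩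
      invFun := fun i => ⟨g * i.1 * g⁻¹, orderOf_conj_two g i.2.1, by
        rw [mul_smul, mul_smul, inv_smul_smul, i.2.2]⟩
      left_inv := fun i => Subtype.ext (by
        show g * (g⁻¹ * i.1 * g) * g⁻¹ = i.1
        group)
      right_inv := fun i => Subtype.ext (by
        show g⁻¹ * (g * i.1 * g⁻¹) * g = i.1
        group) }

theorem se_count_base (H : Subgroup G) :
    Nat.card {i : G // orderOf i = 2 ∧
        i • (QuotientGroup.mk 1 : G ⧸ H) = QuotientGroup.mk 1}
      = Nat.card {t : G // orderOf t = 2 ∧ t ∈ H} := by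
  apply Nat.card_congr
  apply Equiv.subtypeEquivRight
  intro i
  rw [smul_mk_eq_mk_iff]
  simp

theorem mk_eq_smul_mk_one (H : Subgroup G) (g : G) :
    (QuotientGroup.mk g : G ⧸ H) = g • (QuotientGroup.mk 1 : G ⧸ H) := by
  rw [MulAction.Quotient.smul_mk, smul_eq_mul, mul_one]

theorem se_count_fixed (H : Subgroup G) (x : G ⧸ H) :
    Nat.card {i : G // orderOf i = 2 ∧ i • x = x}
      = Nat.card {t : G // orderOf t = 2 ∧ t ∈ H} := by
  obtain ⟨g, rfl⟩ := QuotientGroup.mk_surjective x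
  rw [mk_eq_smul_mk_one H g, se_count_smul, se_count_base]

theorem se_count_ge_base (hH : Cfsg.IsStronglyEmbedded H) {y : G ⧸ H}
    (hy : y ≠ QuotientGroup.mk 1) :
    Nat.card {t : G // orderOf t = 2 ∧ t ∈ H} ≤
      Nat.card {i : G // orderOf i = 2 ∧ i • (QuotientGroup.mk 1 : G ⧸ H) = y} := by
  rw [← se_count_fixed H y]
  obtain ⟨t, htH, ht⟩ := se_exists_involution hH
  have htx : t • (QuotientGroup.mk 1 : G ⧸ H) = QuotientGroup.mk 1 := by
    rw [smul_mk_eq_mk_iff]; simpa using htH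
  have key : ∀ u : {u : G // orderOf u = 2 ∧ u • y = y},
      ∃ s : G, orderOf s = 2 ∧ s * t * s⁻¹ = u.1 := by
    intro u
    apply se_conj_involution hH htH ht _ u.2.1
    intro huH
    have hux : u.1 • (QuotientGroup.mk 1 : G ⧸ H) = QuotientGroup.mk 1 := by
      rw [smul_mk_eq_mk_iff]; simpa using huH
    exact hy (se_fixed_unique hH u.2.1 u.2.2 hux)
  choose f hf2 hf using key
  have hfy : ∀ u, f u • (QuotientGroup.mk 1 : G ⧸ H) = y := by
    intro u
    apply se_fixed_unique hH u.2.1 _ u.2.2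
    rw [← hf u, mul_smul, mul_smul, inv_smul_smul, htx]
  apply Nat.card_le_card_of_injective (fun u =>
    (⟨f u, hf2 u, hfy u⟩ : {i : G // orderOf i = 2 ∧ i • (QuotientGroup.mk 1 : G ⧸ H) = y}))
  intro u u' huu'
  have h1 : f u = f u' := congrArg Subtype.val huu'
  apply Subtype.ext
  rw [← hf u, ← hf u', h1]

theorem se_count_ge (hH : Cfsg.IsStronglyEmbedded H) {x y : G ⧸ H} (hxy : x ≠ y) :
    Nat.card {t : G // orderOf t = 2 ∧ t ∈ H} ≤
      Nat.card {i : G // orderOf i = 2 ∧ i • x = y} := by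
  obtain ⟨g, rfl⟩ := QuotientGroup.mk_surjective x
  obtain ⟨y', rfl⟩ : ∃ y', y = g • y' := ⟨g⁻¹ • y, (smul_inv_smul g y).symm⟩
  have h3 : y' ≠ (QuotientGroup.mk 1 : G ⧸ H) := by
    intro h
    apply hxy
    rw [mk_eq_smul_mk_one H g, h]
  rw [mk_eq_smul_mk_one H g, se_count_smul]
  exact se_count_ge_base hH h3

theorem se_card_involutions_eq_sum (H : Subgroup G) [Fintype (G ⧸ H)] (x : G ⧸ H) :
    Nat.card {i : G // orderOf i = 2}
      = ∑ y : G ⧸ H, Nat.card {i : G // orderOf i = 2 ∧ i • x = y} := by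
  rw [← Nat.card_congr (Equiv.sigmaFiberEquiv (fun i : {i : G // orderOf i = 2} => i.1 • x)),
    Nat.card_sigma]
  apply Finset.sum_congr rfl
  intro y _
  exact Nat.card_congr (Equiv.subtypeSubtypeEquivSubtypeInter (fun i : G => orderOf i = 2)
    (fun i => i • x = y))

theorem se_card_involutions_eq_mul (hH : Cfsg.IsStronglyEmbedded H) [Fintype (G ⧸ H)] :
    Nat.card {i : G // orderOf i = 2}
      = ∑ _y : G ⧸ H, Nat.card {t : G // orderOf t = 2 ∧ t ∈ H} := by
  have hfix : ∀ i : {i : G // orderOf i = 2}, ∃ x : G ⧸ H, i.1 • x = x :=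
    fun i => se_exists_fixed hH i.2
  choose fp hfp using hfix
  rw [← Nat.card_congr (Equiv.sigmaFiberEquiv fp), Nat.card_sigma]
  apply Finset.sum_congr rfl
  intro y _
  rw [← se_count_fixed H y]
  have e1 : {i : {i : G // orderOf i = 2} // fp i = y} ≃
      {i : {i : G // orderOf i = 2} // i.1 • y = y} :=
    Equiv.subtypeEquivRight (fun i =>
      ⟨fun h => by rw [← h]; exact hfp i, fun h => se_fixed_unique hH i.2 (hfp i) h⟩)
  exact Nat.card_congr (e1.trans (Equiv.subtypeSubtypeEquivSubtypeInter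
    (fun i : G => orderOf i = 2) (fun i => i • y = y)))

/-- The number of involutions mapping a coset `x` to a different coset `y` equals the number of
involutions of the strongly embedded subgroup (= S1224). -/
theorem se_count_eq (hH : Cfsg.IsStronglyEmbedded H) (x y : G ⧸ H) (_hxy : x ≠ y) :
    Nat.card {i : G // orderOf i = 2 ∧ i • x = y}
      = Nat.card {t : G // orderOf t = 2 ∧ t ∈ H} := by
  classical
  haveI : Fintype (G ⧸ H) := Fintype.ofFinite _
  have hsum : ∑ _y : G ⧸ H, Nat.card {t : G // orderOf t = 2 ∧ t ∈ H}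
      = ∑ y : G ⧸ H, Nat.card {i : G // orderOf i = 2 ∧ i • x = y} := by
    rw [← se_card_involutions_eq_sum H x, ← se_card_involutions_eq_mul hH]
  have hle : ∀ y ∈ (Finset.univ : Finset (G ⧸ H)),
      Nat.card {t : G // orderOf t = 2 ∧ t ∈ H}
        ≤ Nat.card {i : G // orderOf i = 2 ∧ i • x = y} := by
    intro y _
    by_cases h : x = y
    · subst h; exact (se_count_fixed H x).ge
    · exact se_count_ge hH h
  exact ((Finset.sum_eq_sum_iff_of_le hle).mp hsum y (Finset.mem_univ y)).symm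

end se

end Cfsg.Agent.Lib.Helper21
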