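import Mathlib
import Cfsg.Prelude.Def_Involutions
import Cfsg.Agent.Lib.Helper21.SE

/-!
Finite groups in which the centralizer of every involution is an elementary abelian 2-group
and a Sylow 2-subgroup `T` is neither cyclic nor normal: `N_G(T)` is strongly embedded,
structure of `N_G(T)`, the action on the cosets of `N_G(T)`.
-/

set_option autoImplicit false

namespace Cfsg.Agent.Lib.Helper21

open Subgroup

section ec

variable {G : Type*} [Group G]

/-- Centralizers of involutions are elementary abelian 2-groups. -/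
def ElemCent (G : Type*) [Group G] : Prop :=
  ∀ t : G, orderOf t = 2 →
    IsMulCommutative (centralizer ({t} : Set G)) ∧ ∀ c ∈ centralizer ({t} : Set G), c ^ 2 = 1

/-- The normalizer of a Sylow 2-subgroup. -/
abbrev nT (T : Sylow 2 G) : Subgroup G := normalizer ((T : Subgroup G) : Set G)

/-- `N ∩ uNu⁻¹` for `N = N_G(T)`. -/
abbrev dT (T : Sylow 2 G) (u : G) : Subgroup G :=
  nT T ⊓ (nT T).map (MulAut.conj u).toMonoidHom

theorem mem_centralizer_singleton' {a b : G} : a ∈ centralizer ({b} : Set G) ↔ b * a = a * b := by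
  rw [mem_centralizer_iff]
  constructor
  · intro h; exact h b (Set.mem_singleton b)
  · intro h y hy
    rw [Set.mem_singleton_iff] at hy
    rw [hy]; exact h

theorem conj_ne_one {t : G} (g : G) (ht : t ≠ 1) : g⁻¹ * t * g ≠ 1 := by
  intro h
  apply ht
  have h1 : t = g * (g⁻¹ * t * g) * g⁻¹ := by group
  rw [h1, h]; group

variable [Finite G]

theorem ec_isPGroup_centralizer (hC : ElemCent G) {t : G} (ht : orderOf t = 2) :
    IsPGroup 2 (centralizer ({t} : Set G)) := by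
  intro c
  refine ⟨1, ?_⟩
  apply Subtype.ext
  show (c : G) ^ 2 ^ 1 = 1
  rw [pow_one]
  exact (hC t ht).2 c.1 c.2

theorem ec_exists_ne_one (T : Sylow 2 G) (hnc : ¬ IsCyclic (T : Subgroup G)) :
    ∃ t ∈ (T : Subgroup G), t ≠ 1 := by
  have hTne : Nontrivial (T : Subgroup G) := by
    by_contra h
    rw [not_nontrivial_iff_subsingleton] at h
    exact hnc inferInstance
  exact (Subgroup.nontrivial_iff_exists_ne_one _).mp hTne

/-- The Sylow 2-subgroup is elementary abelian. -/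
theorem ec_sylow_elementary (T : Sylow 2 G) (hnc : ¬ IsCyclic (T : Subgroup G))
    (hC : ElemCent G) :
    (∀ a ∈ (T : Subgroup G), a ^ 2 = 1) ∧
      (∀ a ∈ (T : Subgroup G), ∀ b ∈ (T : Subgroup G), a * b = b * a) := by
  have hTne : Nontrivial (T : Subgroup G) := by
    by_contra h
    rw [not_nontrivial_iff_subsingleton] at h
    exact hnc inferInstance
  have hTp : IsPGroup 2 (T : Subgroup G) := T.isPGroup'
  have hcen : Nontrivial (center (T : Subgroup G)) := hTp.center_nontrivial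
  have hcp : IsPGroup 2 (center (T : Subgroup G)) := hTp.to_subgroup _
  have h2 : 2 ∣ Nat.card (center (T : Subgroup G)) := by
    obtain ⟨n, hn⟩ := IsPGroup.iff_card.mp hcp
    have h1 : 1 < Nat.card (center (T : Subgroup G)) := Finite.one_lt_card
    rw [hn] at h1 ⊢
    have hn0 : n ≠ 0 := by
      intro h0
      rw [h0, pow_zero] at h1
      omega
    exact dvd_pow_self 2 hn0
  obtain ⟨z, hz⟩ := exists_prime_orderOf_dvd_card' (G := center (T : Subgroup G)) 2 h2
  have hz2 : orderOf ((z : (T : Subgroup G)) : G) = 2 := by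
    rw [Subgroup.orderOf_coe, Subgroup.orderOf_coe]; exact hz
  have hTle : (T : Subgroup G) ≤ centralizer ({((z : (T : Subgroup G)) : G)} : Set G) := by
    intro a ha
    rw [mem_centralizer_singleton']
    have h3 := mem_center_iff.mp z.2 ⟨a, ha⟩
    exact (congrArg Subtype.val h3).symm
  constructor
  · intro a ha
    exact (hC _ hz2).2 a (hTle ha)
  · intro a ha b hb
    have hcomm := (hC _ hz2).1
    have h3 := mul_comm' (⟨a, hTle ha⟩ : centralizer ({((z : (T : Subgroup G)) : G)} : Set G))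
      ⟨b, hTle hb⟩
    exact congrArg Subtype.val h3

theorem ec_centralizer_eq (T : Sylow 2 G) (hnc : ¬ IsCyclic (T : Subgroup G)) (hC : ElemCent G)
    {t : G} (htT : t ∈ (T : Subgroup G)) (ht1 : t ≠ 1) :
    centralizer ({t} : Set G) = (T : Subgroup G) := by
  obtain ⟨hexp, hab⟩ := ec_sylow_elementary T hnc hC
  have ht2 : orderOf t = 2 := orderOf_eq_prime (hexp t htT) ht1
  apply T.is_maximal' (ec_isPGroup_centralizer hC ht2)
  intro a ha
  rw [mem_centralizer_singleton']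
  exact hab t htT a ha

/-- Involutions of `N_G(T)` lie in `T`. -/
theorem ec_mem_sylow_of_mem_normalizer (T : Sylow 2 G) {t : G} (ht : orderOf t = 2)
    (htN : t ∈ nT T) : t ∈ (T : Subgroup G) := by
  have hz : IsPGroup 2 (zpowers t) := by
    apply IsPGroup.of_card (n := 1)
    rw [Nat.card_zpowers, ht, pow_one]
  have hle : zpowers t ≤ normalizer ((T : Subgroup G) : Set G) := by
    rw [zpowers_le]; exact htN
  have hsup : IsPGroup 2 (zpowers t ⊔ (T : Subgroup G) : Subgroup G) :=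
    IsPGroup.to_sup_of_normal_right' hz T.isPGroup' hle
  have h1 := T.is_maximal' hsup le_sup_right
  rw [← h1]
  exact (le_sup_left : zpowers t ≤ zpowers t ⊔ (T : Subgroup G)) (mem_zpowers t)

theorem ec_conj_mem (T : Sylow 2 G) (hnc : ¬ IsCyclic (T : Subgroup G)) (hC : ElemCent G)
    {g t : G} (htT : t ∈ (T : Subgroup G)) (ht1 : t ≠ 1) (hg : g⁻¹ * t * g ∈ (T : Subgroup G)) :
    ∀ a ∈ (T : Subgroup G), g⁻¹ * a * g ∈ (T : Subgroup G) := by
  intro a ha
  rw [← ec_centralizer_eq T hnc hC hg (conj_ne_one g ht1), mem_centralizer_singleton']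
  have h1 := (ec_sylow_elementary T hnc hC).2 t htT a ha
  calc g⁻¹ * t * g * (g⁻¹ * a * g) = g⁻¹ * (t * a) * g := by group
    _ = g⁻¹ * (a * t) * g := by rw [h1]
    _ = g⁻¹ * a * g * (g⁻¹ * t * g) := by group

/-- `T` is a TI-subgroup. -/
theorem ec_mem_normalizer_of_conj_mem (T : Sylow 2 G) (hnc : ¬ IsCyclic (T : Subgroup G))
    (hC : ElemCent G) {g t : G} (htT : t ∈ (T : Subgroup G)) (ht1 : t ≠ 1)
    (hg : g⁻¹ * t * g ∈ (T : Subgroup G)) : g ∈ nT T := by
  have h1 := ec_conj_mem T hnc hC htT ht1 hg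
  have h2 := ec_conj_mem T hnc hC (g := g⁻¹) hg (conj_ne_one g ht1) (by
    rw [inv_inv]
    have e : g * (g⁻¹ * t * g) * g⁻¹ = t := by group
    rw [e]; exact htT)
  rw [mem_normalizer_iff]
  intro h
  constructor
  · intro hh
    have h3 := h2 h hh
    rwa [inv_inv] at h3
  · intro hh
    have h3 := h1 _ hh
    have e : g⁻¹ * (g * h * g⁻¹) * g = h := by group
    rwa [e] at h3

/-- `N_G(T)` is strongly embedded (= S1226). -/
theorem ec_stronglyEmbedded (T : Sylow 2 G) (hnc : ¬ IsCyclic (T : Subgroup G))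
    (hnn : ¬ (T : Subgroup G).Normal) (hC : ElemCent G) :
    Cfsg.IsStronglyEmbedded (normalizer ((T : Subgroup G) : Set G)) := by
  refine ⟨?_, ?_, ?_⟩
  · intro h
    exact hnn (normalizer_eq_top_iff.mp h)
  · obtain ⟨z, hzT, hz1⟩ := ec_exists_ne_one T hnc
    have hz : orderOf z = 2 := orderOf_eq_prime ((ec_sylow_elementary T hnc hC).1 z hzT) hz1
    have h3 := orderOf_dvd_natCard
      (⟨z, le_normalizer hzT⟩ : normalizer ((T : Subgroup G) : Set G))
    rw [Subgroup.orderOf_mk, hz] at h3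
    exact even_iff_two_dvd.mpr h3
  · intro g hg
    by_contra hodd
    rw [Nat.not_odd_iff_even] at hodd
    obtain ⟨x, hx⟩ := exists_prime_orderOf_dvd_card'
      (G := ↥(normalizer ((T : Subgroup G) : Set G) ⊓
        (normalizer ((T : Subgroup G) : Set G)).map (MulAut.conj g).toMonoidHom)) 2
      (even_iff_two_dvd.mp hodd)
    have hx2 : orderOf (x : G) = 2 := by rw [Subgroup.orderOf_coe]; exact hx
    have hxN := (Subgroup.mem_inf.mp x.2).1
    have hxg := mem_map_conj.mp (Subgroup.mem_inf.mp x.2).2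
    have hxT := ec_mem_sylow_of_mem_normalizer T hx2 hxN
    have hxgT := ec_mem_sylow_of_mem_normalizer T (orderOf_conj_two' g hx2) hxg
    exact hg (ec_mem_normalizer_of_conj_mem T hnc hC hxT (ne_one_of_orderOf_two hx2) hxgT)

/-- An involution `u` outside `N = N_G(T)` inverts `N ∩ uNu⁻¹`. -/
theorem ec_inverts (T : Sylow 2 G) (hnc : ¬ IsCyclic (T : Subgroup G))
    (hnn : ¬ (T : Subgroup G).Normal) (hC : ElemCent G) (u : G) (hu : orderOf u = 2)
    (huN : u ∉ nT T) : ∀ d ∈ dT T u, u * d * u⁻¹ = d⁻¹ := by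
  have hSE := ec_stronglyEmbedded T hnc hnn hC
  have huu := mul_self_of_orderOf_two hu
  have hui : u⁻¹ = u := inv_eq_of_mul_eq_one_left huu
  apply inv_of_fixedPointFree _ u huu
  · intro d hd
    refine Subgroup.mem_inf.mpr ⟨?_, ?_⟩
    · have h1 := mem_map_conj.mp (Subgroup.mem_inf.mp hd).2
      rw [hui] at h1 ⊢
      exact h1
    · exact conj_mem_map_conj (Subgroup.mem_inf.mp hd).1
  · intro d hd hcomm
    have hdc : d ∈ centralizer ({u} : Set G) := mem_centralizer_singleton'.mpr hcomm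
    exact eq_one_of_sq_eq_one_of_odd (hSE.2.2 u huN) hd ((hC u hu).2 d hdc)

theorem ec_inter_sylow (T : Sylow 2 G) (hnc : ¬ IsCyclic (T : Subgroup G))
    (hnn : ¬ (T : Subgroup G).Normal) (hC : ElemCent G) (u : G) (huN : u ∉ nT T) {d : G}
    (hd : d ∈ dT T u) (hdT : d ∈ (T : Subgroup G)) : d = 1 :=
  eq_one_of_sq_eq_one_of_odd ((ec_stronglyEmbedded T hnc hnn hC).2.2 u huN) hd
    ((ec_sylow_elementary T hnc hC).1 d hdT)

/-- `N ∩ uNu⁻¹` acts freely on `T ∖ 1`. -/
theorem ec_conj_free (T : Sylow 2 G) (hnc : ¬ IsCyclic (T : Subgroup G))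
    (hnn : ¬ (T : Subgroup G).Normal) (hC : ElemCent G) (u : G) (huN : u ∉ nT T) {d t : G}
    (hd : d ∈ dT T u) (htT : t ∈ (T : Subgroup G)) (ht1 : t ≠ 1) (h : t * d = d * t) : d = 1 := by
  apply ec_inter_sylow T hnc hnn hC u huN hd
  rw [← ec_centralizer_eq T hnc hC htT ht1]
  exact mem_centralizer_singleton'.mpr h

/-- `N = (N ∩ uNu⁻¹) T`. -/
theorem ec_exists_mul (T : Sylow 2 G) (hnc : ¬ IsCyclic (T : Subgroup G))
    (hnn : ¬ (T : Subgroup G).Normal) (hC : ElemCent G) (u : G) (hu : orderOf u = 2)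
    (huN : u ∉ nT T) {h : G} (hh : h ∈ nT T) :
    ∃ d ∈ dT T u, ∃ t ∈ (T : Subgroup G), h = d * t := by
  have hSE := ec_stronglyEmbedded T hnc hnn hC
  obtain ⟨hexp, hab⟩ := ec_sylow_elementary T hnc hC
  obtain ⟨t₀, ht₀T, ht₀1⟩ := ec_exists_ne_one T hnc
  have ht₀2 : orderOf t₀ = 2 := orderOf_eq_prime (hexp t₀ ht₀T) ht₀1
  have h1 : h * t₀ * h⁻¹ ∈ (T : Subgroup G) := (mem_normalizer_iff.mp hh t₀).mp ht₀T
  have h2 : orderOf (h * t₀ * h⁻¹) = 2 := orderOf_conj_two h ht₀2
  obtain ⟨d, hd, hdt⟩ := se_conj_in_inter hSE u hu huN t₀ (h * t₀ * h⁻¹) ht₀2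
    (le_normalizer ht₀T) h2 (le_normalizer h1)
  refine ⟨d, hd, d⁻¹ * h, ?_, by group⟩
  rw [← ec_centralizer_eq T hnc hC ht₀T ht₀1, mem_centralizer_singleton']
  calc t₀ * (d⁻¹ * h) = d⁻¹ * (d * t₀ * d⁻¹) * h := by group
    _ = d⁻¹ * (h * t₀ * h⁻¹) * h := by rw [hdt]
    _ = d⁻¹ * h * t₀ := by group

/-- `N ∩ uNu⁻¹` is in bijection with `T ∖ 1`. -/
theorem ec_inter_bijective (T : Sylow 2 G) (hnc : ¬ IsCyclic (T : Subgroup G))
    (hnn : ¬ (T : Subgroup G).Normal) (hC : ElemCent G) (u : G) (hu : orderOf u = 2)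
    (huN : u ∉ nT T) {t₀ : G} (ht₀T : t₀ ∈ (T : Subgroup G)) (ht₀1 : t₀ ≠ 1) :
    (∀ d ∈ dT T u, ∀ e ∈ dT T u, d * t₀ * d⁻¹ = e * t₀ * e⁻¹ → d = e) ∧
      (∀ t ∈ (T : Subgroup G), t ≠ 1 → ∃ d ∈ dT T u, d * t₀ * d⁻¹ = t) := by
  have hSE := ec_stronglyEmbedded T hnc hnn hC
  obtain ⟨hexp, hab⟩ := ec_sylow_elementary T hnc hC
  have ht₀2 : orderOf t₀ = 2 := orderOf_eq_prime (hexp t₀ ht₀T) ht₀1
  constructor
  · intro d hd e he h1
    have h2 : t₀ * (e⁻¹ * d) = e⁻¹ * d * t₀ := by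
      calc t₀ * (e⁻¹ * d) = e⁻¹ * (e * t₀ * e⁻¹) * d := by group
        _ = e⁻¹ * (d * t₀ * d⁻¹) * d := by rw [h1]
        _ = e⁻¹ * d * t₀ := by group
    have h3 := ec_conj_free T hnc hnn hC u huN ((dT T u).mul_mem ((dT T u).inv_mem he) hd)
      ht₀T ht₀1 h2
    exact (inv_mul_eq_one.mp h3).symm
  · intro t htT ht1
    have ht2 : orderOf t = 2 := orderOf_eq_prime (hexp t htT) ht1
    exact se_conj_in_inter hSE u hu huN t₀ t ht₀2 (le_normalizer ht₀T) ht2 (le_normalizer htT)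

theorem ec_card_inter_succ (T : Sylow 2 G) (hnc : ¬ IsCyclic (T : Subgroup G))
    (hnn : ¬ (T : Subgroup G).Normal) (hC : ElemCent G) (u : G) (hu : orderOf u = 2)
    (huN : u ∉ nT T) : Nat.card (dT T u) + 1 = Nat.card (T : Subgroup G) := by
  classical
  obtain ⟨t₀, ht₀T, ht₀1⟩ := ec_exists_ne_one T hnc
  obtain ⟨hinj, hsurj⟩ := ec_inter_bijective T hnc hnn hC u hu huN ht₀T ht₀1
  have hmem : ∀ d ∈ dT T u, d * t₀ * d⁻¹ ∈ (T : Subgroup G) := fun d hd =>
    (mem_normalizer_iff.mp (Subgroup.mem_inf.mp hd).1 t₀).mp ht₀T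
  have hne : ∀ d : dT T u,
      (⟨(d : G) * t₀ * (d : G)⁻¹, hmem d d.2⟩ : (T : Subgroup G)) ≠ 1 := by
    intro d h
    have h1 : (d : G) * t₀ * (d : G)⁻¹ = 1 := congrArg Subtype.val h
    apply ht₀1
    have h2 : t₀ = (d : G)⁻¹ * ((d : G) * t₀ * (d : G)⁻¹) * d := by group
    rw [h2, h1]; group
  have hbij : Function.Bijective (fun d : dT T u =>
      (⟨⟨(d : G) * t₀ * (d : G)⁻¹, hmem d d.2⟩, hne d⟩ :
        {b : (T : Subgroup G) // b ≠ 1})) := by
    constructor
    · intro d e hde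
      have h1 : (d : G) * t₀ * (d : G)⁻¹ = (e : G) * t₀ * (e : G)⁻¹ :=
        congrArg (fun b : {b : (T : Subgroup G) // b ≠ 1} => ((b : (T : Subgroup G)) : G)) hde
      exact Subtype.ext (hinj d d.2 e e.2 h1)
    · intro b
      have hb1 : ((b : (T : Subgroup G)) : G) ≠ 1 := by
        intro h
        exact b.2 (Subtype.ext h)
      obtain ⟨d, hd, hdt⟩ := hsurj _ b.1.2 hb1
      exact ⟨⟨d, hd⟩, Subtype.ext (Subtype.ext hdt)⟩
  rw [Nat.card_congr (Equiv.ofBijective _ hbij), ← Finite.card_option,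
    Nat.card_congr (Equiv.optionSubtypeNe (1 : (T : Subgroup G)))]

/-- `N ∩ uNu⁻¹` is a complement of `T` in `N`. -/
theorem ec_isComplement (T : Sylow 2 G) (hnc : ¬ IsCyclic (T : Subgroup G))
    (hnn : ¬ (T : Subgroup G).Normal) (hC : ElemCent G) (u : G) (hu : orderOf u = 2)
    (huN : u ∉ nT T) :
    IsComplement' ((dT T u).subgroupOf (nT T)) ((T : Subgroup G).subgroupOf (nT T)) := by
  apply isComplement'_of_disjoint_and_mul_eq_univ
  · rw [disjoint_def]
    intro x hx1 hx2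
    apply Subtype.ext
    exact ec_inter_sylow T hnc hnn hC u huN (mem_subgroupOf.mp hx1) (mem_subgroupOf.mp hx2)
  · rw [Set.eq_univ_iff_forall]
    intro h
    obtain ⟨d, hd, t, ht, hdt⟩ := ec_exists_mul T hnc hnn hC u hu huN h.2
    refine ⟨⟨d, (Subgroup.mem_inf.mp hd).1⟩, mem_subgroupOf.mpr hd, ⟨t, le_normalizer ht⟩,
      mem_subgroupOf.mpr ht, ?_⟩
    apply Subtype.ext
    exact hdt.symm

theorem ec_card_normalizer (T : Sylow 2 G) (hnc : ¬ IsCyclic (T : Subgroup G))
    (hnn : ¬ (T : Subgroup G).Normal) (hC : ElemCent G) (u : G) (hu : orderOf u = 2)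
    (huN : u ∉ nT T) :
    Nat.card (nT T) = Nat.card (T : Subgroup G) * (Nat.card (T : Subgroup G) - 1) := by
  have h1 := (ec_isComplement T hnc hnn hC u hu huN).card_mul_card
  have h2 : Nat.card ((dT T u).subgroupOf (nT T)) = Nat.card (dT T u) :=
    Nat.card_congr (subgroupOfEquivOfLe inf_le_left).toEquiv
  have h3 : Nat.card ((T : Subgroup G).subgroupOf (nT T)) = Nat.card (T : Subgroup G) :=
    Nat.card_congr (subgroupOfEquivOfLe le_normalizer).toEquiv
  have h4 := ec_card_inter_succ T hnc hnn hC u hu huN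
  rw [h2, h3] at h1
  have h5 : Nat.card (dT T u) = Nat.card (T : Subgroup G) - 1 := by omega
  rw [← h1, h5, mul_comm]

/-- Structure of `N_G(T)` (= S1227). -/
theorem ec_normalizer_structure (T : Sylow 2 G) (hnc : ¬ IsCyclic (T : Subgroup G))
    (hnn : ¬ (T : Subgroup G).Normal) (hC : ElemCent G) (u : G) (hu : orderOf u = 2)
    (huN : u ∉ normalizer ((T : Subgroup G) : Set G)) :
    (∀ d ∈ normalizer ((T : Subgroup G) : Set G) ⊓
        (normalizer ((T : Subgroup G) : Set G)).map (MulAut.conj u).toMonoidHom,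
        u * d * u⁻¹ = d⁻¹) ∧
      Nat.card (normalizer ((T : Subgroup G) : Set G)) = Nat.card T * (Nat.card T - 1) ∧
      IsComplement'
        ((normalizer ((T : Subgroup G) : Set G) ⊓
          (normalizer ((T : Subgroup G) : Set G)).map (MulAut.conj u).toMonoidHom).subgroupOf
            (normalizer ((T : Subgroup G) : Set G)))
        ((T : Subgroup G).subgroupOf (normalizer ((T : Subgroup G) : Set G))) :=
  ⟨ec_inverts T hnc hnn hC u hu huN, ec_card_normalizer T hnc hnn hC u hu huN,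
    ec_isComplement T hnc hnn hC u hu huN⟩

end ec

end Cfsg.Agent.Lib.Helper21
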