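import Mathlib
import Cfsg.Prelude.Def_Involutions
import Cfsg.Agent.Lib.Helper21.EC

/-!
Finite groups with elementary abelian involution centralizers, part 2: the normalizer of
`D = N ∩ uNu⁻¹` (`N = N_G(T)`), the cosets fixed by `D`, and triple transitivity on `G / N`.
-/

set_option autoImplicit false

namespace Cfsg.Agent.Lib.Helper21

open Subgroup

section ec2

variable {G : Type*} [Group G] [Finite G]

/-- `N ∩ uNu⁻¹` is abelian. -/
theorem ec_inter_comm (T : Sylow 2 G) (hnc : ¬ IsCyclic (T : Subgroup G))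
    (hnn : ¬ (T : Subgroup G).Normal) (hC : ElemCent G) (u : G) (hu : orderOf u = 2)
    (huN : u ∉ nT T) : ∀ a ∈ dT T u, ∀ b ∈ dT T u, a * b = b * a := by
  intro a ha b hb
  have hinv := ec_inverts T hnc hnn hC u hu huN
  have h1 := hinv a ha
  have h2 := hinv b hb
  have h3 := hinv (a * b) ((dT T u).mul_mem ha hb)
  have h4 : u * (a * b) * u⁻¹ = a⁻¹ * b⁻¹ := by
    calc u * (a * b) * u⁻¹ = (u * a * u⁻¹) * (u * b * u⁻¹) := by group
      _ = a⁻¹ * b⁻¹ := by rw [h1, h2]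
  rw [h4] at h3
  have h5 : (b * a)⁻¹ = (a * b)⁻¹ := by rw [mul_inv_rev]; exact h3
  exact (inv_injective h5).symm

theorem ec_exists_ne_one_inter (T : Sylow 2 G) (hnc : ¬ IsCyclic (T : Subgroup G))
    (hnn : ¬ (T : Subgroup G).Normal) (hC : ElemCent G) (u : G) (hu : orderOf u = 2)
    (huN : u ∉ nT T) : ∃ d ∈ dT T u, d ≠ 1 := by
  by_contra hcon
  have hbot : dT T u = ⊥ := by
    rw [eq_bot_iff]
    intro d hd
    rw [mem_bot]
    by_contra h1
    exact hcon ⟨d, hd, h1⟩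
  have h1 := ec_card_inter_succ T hnc hnn hC u hu huN
  rw [hbot, card_bot] at h1
  exact hnc (isCyclic_of_prime_card (p := 2) h1.symm)

/-- `N_N(D) = D`. -/
theorem ec_normalizer_inf (T : Sylow 2 G) (hnc : ¬ IsCyclic (T : Subgroup G))
    (hnn : ¬ (T : Subgroup G).Normal) (hC : ElemCent G) (u : G) (hu : orderOf u = 2)
    (huN : u ∉ nT T) {h : G} (hh : h ∈ nT T)
    (hn : h ∈ normalizer ((dT T u : Subgroup G) : Set G)) : h ∈ dT T u := by
  obtain ⟨d, hd, t, ht, rfl⟩ := ec_exists_mul T hnc hnn hC u hu huN hh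
  have htn : t ∈ normalizer ((dT T u : Subgroup G) : Set G) := by
    have h0 : t = d⁻¹ * (d * t) := by group
    rw [h0]
    exact mul_mem (inv_mem (le_normalizer hd)) hn
  obtain ⟨e, he, he1⟩ := ec_exists_ne_one_inter T hnc hnn hC u hu huN
  have h1 : t * e * t⁻¹ ∈ dT T u := (mem_normalizer_iff.mp htn e).mp he
  have h2 : t * e * t⁻¹ * e⁻¹ ∈ (T : Subgroup G) := by
    have h3 : e * t⁻¹ * e⁻¹ ∈ (T : Subgroup G) :=
      (mem_normalizer_iff.mp (Subgroup.mem_inf.mp he).1 t⁻¹).mp (inv_mem ht)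
    have h0 : t * e * t⁻¹ * e⁻¹ = t * (e * t⁻¹ * e⁻¹) := by group
    rw [h0]; exact mul_mem ht h3
  have h4 := ec_inter_sylow T hnc hnn hC u huN
    ((dT T u).mul_mem h1 ((dT T u).inv_mem he)) h2
  have h5 : t * e = e * t := by
    have h0 : t * e = (t * e * t⁻¹ * e⁻¹) * (e * t) := by group
    rw [h0, h4, one_mul]
  have ht1 : t = 1 := by
    by_contra ht1
    exact he1 (ec_conj_free T hnc hnn hC u huN he ht ht1 h5)
  rw [ht1, mul_one]; exact hd

theorem ec_inter_eq_of_le (T : Sylow 2 G) (hnc : ¬ IsCyclic (T : Subgroup G))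
    (hnn : ¬ (T : Subgroup G).Normal) (hC : ElemCent G) (u : G) (hu : orderOf u = 2)
    (huN : u ∉ nT T) (j : G) (hj : orderOf j = 2) (hjN : j ∉ nT T)
    (hle : ∀ d ∈ dT T u, j⁻¹ * d * j ∈ nT T) : dT T j = dT T u := by
  symm
  apply Subgroup.eq_of_le_of_card_ge
  · intro d hd
    exact Subgroup.mem_inf.mpr ⟨(Subgroup.mem_inf.mp hd).1, mem_map_conj.mpr (hle d hd)⟩
  · have h1 := ec_card_inter_succ T hnc hnn hC u hu huN
    have h2 := ec_card_inter_succ T hnc hnn hC j hj hjN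
    omega

theorem ec_mem_normalizer_inter (T : Sylow 2 G) (hnc : ¬ IsCyclic (T : Subgroup G))
    (hnn : ¬ (T : Subgroup G).Normal) (hC : ElemCent G) (j : G) (hj : orderOf j = 2)
    (hjN : j ∉ nT T) : j ∈ normalizer ((dT T j : Subgroup G) : Set G) := by
  have hinv := ec_inverts T hnc hnn hC j hj hjN
  have hjj := mul_self_of_orderOf_two hj
  rw [mem_normalizer_iff]
  intro h
  constructor
  · intro hh
    rw [hinv h hh]; exact (dT T j).inv_mem hh
  · intro hh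
    have h1 := hinv _ hh
    have h2 : j * (j * h * j⁻¹) * j⁻¹ = h := by
      calc j * (j * h * j⁻¹) * j⁻¹ = (j * j) * h * (j * j)⁻¹ := by group
        _ = h := by rw [hjj]; group
    rw [h2] at h1
    rw [h1]; exact (dT T j).inv_mem hh

theorem ec_card_involutions (T : Sylow 2 G) (hnc : ¬ IsCyclic (T : Subgroup G))
    (hnn : ¬ (T : Subgroup G).Normal) (hC : ElemCent G) (u : G) (hu : orderOf u = 2)
    (huN : u ∉ nT T) :
    Nat.card {t : G // orderOf t = 2 ∧ t ∈ nT T} = Nat.card (dT T u) := by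
  classical
  obtain ⟨hexp, -⟩ := ec_sylow_elementary T hnc hC
  have e : {t : G // orderOf t = 2 ∧ t ∈ nT T} ≃ {b : (T : Subgroup G) // b ≠ 1} :=
    { toFun := fun t => ⟨⟨t.1, ec_mem_sylow_of_mem_normalizer T t.2.1 t.2.2⟩,
        fun h => ne_one_of_orderOf_two t.2.1 (congrArg Subtype.val h)⟩
      invFun := fun b => ⟨b.1.1, orderOf_eq_prime (hexp _ b.1.2) (fun h => b.2 (Subtype.ext h)),
        le_normalizer b.1.2⟩
      left_inv := fun t => rfl
      right_inv := fun b => rfl }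
  have h1 := Nat.card_congr e
  have h2 : Nat.card {b : (T : Subgroup G) // b ≠ 1} + 1 = Nat.card (T : Subgroup G) := by
    rw [← Finite.card_option, Nat.card_congr (Equiv.optionSubtypeNe (1 : (T : Subgroup G)))]
  have h3 := ec_card_inter_succ T hnc hnn hC u hu huN
  omega

theorem ec_exists_involution_coset (T : Sylow 2 G) (hnc : ¬ IsCyclic (T : Subgroup G))
    (hnn : ¬ (T : Subgroup G).Normal) (hC : ElemCent G) {g : G} (hg : g ∉ nT T) :
    ∃ i : G, orderOf i = 2 ∧ g⁻¹ * i ∈ nT T ∧ i ∉ nT T := by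
  have hSE := ec_stronglyEmbedded T hnc hnn hC
  have hxy : (QuotientGroup.mk 1 : G ⧸ nT T) ≠ QuotientGroup.mk g := by
    intro h
    rw [QuotientGroup.eq] at h
    apply hg
    simpa using h
  have hcount := se_count_eq hSE _ _ hxy
  obtain ⟨t, htN, ht2⟩ := se_exists_involution hSE
  have hne : Nonempty {t : G // orderOf t = 2 ∧ t ∈ nT T} := ⟨⟨t, ht2, htN⟩⟩
  have hpos : 0 < Nat.card {i : G // orderOf i = 2 ∧
      i • (QuotientGroup.mk 1 : G ⧸ nT T) = QuotientGroup.mk g} := by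
    rw [hcount]; exact Nat.card_pos
  obtain ⟨i⟩ := (Nat.card_pos_iff.mp hpos).1
  have hi1 : g⁻¹ * i.1 ∈ nT T := by
    have h := (smul_mk_eq_mk_iff (nT T) i.1 1 g).mp i.2.2
    simpa using h
  refine ⟨i.1, i.2.1, hi1, ?_⟩
  intro h
  apply hg
  have h3 : g = i.1 * (g⁻¹ * i.1)⁻¹ := by group
  rw [h3]; exact mul_mem h (inv_mem hi1)

/-- An element of `N_G(D)` outside `N` is an involution. -/
theorem ec_involution_of_normalizer (T : Sylow 2 G) (hnc : ¬ IsCyclic (T : Subgroup G))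
    (hnn : ¬ (T : Subgroup G).Normal) (hC : ElemCent G) (u : G) (hu : orderOf u = 2)
    (huN : u ∉ nT T) {n : G} (hn : n ∈ normalizer ((dT T u : Subgroup G) : Set G))
    (hnN : n ∉ nT T) : orderOf n = 2 := by
  have hSE := ec_stronglyEmbedded T hnc hnn hC
  have hxy : (QuotientGroup.mk 1 : G ⧸ nT T) ≠ QuotientGroup.mk n := by
    intro h
    rw [QuotientGroup.eq] at h
    apply hnN
    simpa using h
  have hcount := se_count_eq hSE (QuotientGroup.mk 1) (QuotientGroup.mk n) hxy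
  have hD := ec_card_involutions T hnc hnn hC u hu huN
  have hmem : ∀ i : {i : G // orderOf i = 2 ∧
      i • (QuotientGroup.mk 1 : G ⧸ nT T) = QuotientGroup.mk n}, n⁻¹ * i.1 ∈ dT T u := by
    intro i
    have hi1 : n⁻¹ * i.1 ∈ nT T := by
      have h := (smul_mk_eq_mk_iff (nT T) i.1 1 n).mp i.2.2
      simpa using h
    have hiN : i.1 ∉ nT T := by
      intro h
      apply hnN
      have h3 : n = i.1 * (n⁻¹ * i.1)⁻¹ := by group
      rw [h3]; exact mul_mem h (inv_mem hi1)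
    have hle : ∀ d ∈ dT T u, i.1⁻¹ * d * i.1 ∈ nT T := by
      intro d hd
      have h1 : n⁻¹ * d * n ∈ dT T u := by
        have h0 := (mem_normalizer_iff.mp (inv_mem hn) d).mp hd
        rwa [inv_inv] at h0
      have h2 : i.1⁻¹ * d * i.1 = (n⁻¹ * i.1)⁻¹ * (n⁻¹ * d * n) * (n⁻¹ * i.1) := by group
      rw [h2]
      exact mul_mem (mul_mem (inv_mem hi1) (Subgroup.mem_inf.mp h1).1) hi1
    have heq := ec_inter_eq_of_le T hnc hnn hC u hu huN i.1 i.2.1 hiN hle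
    have hin : i.1 ∈ normalizer ((dT T u : Subgroup G) : Set G) := by
      rw [← heq]; exact ec_mem_normalizer_inter T hnc hnn hC i.1 i.2.1 hiN
    exact ec_normalizer_inf T hnc hnn hC u hu huN hi1 (mul_mem (inv_mem hn) hin)
  have hinj : Function.Injective (fun i : {i : G // orderOf i = 2 ∧
      i • (QuotientGroup.mk 1 : G ⧸ nT T) = QuotientGroup.mk n} =>
      (⟨n⁻¹ * i.1, hmem i⟩ : dT T u)) := by
    intro i i' h
    have h1 : n⁻¹ * i.1 = n⁻¹ * i'.1 := congrArg Subtype.val h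
    exact Subtype.ext (mul_left_cancel h1)
  have hbij := (Nat.bijective_iff_injective_and_card _).mpr ⟨hinj, by rw [hcount, hD]⟩
  obtain ⟨i, hi⟩ := hbij.2 (1 : dT T u)
  have h1 : n⁻¹ * i.1 = 1 := congrArg Subtype.val hi
  have h2 : i.1 = n := by
    have h0 : i.1 = n * (n⁻¹ * i.1) := by group
    rw [h0, h1, mul_one]
  rw [← h2]; exact i.2.1

theorem ec_normalizer_cases (T : Sylow 2 G) (hnc : ¬ IsCyclic (T : Subgroup G))
    (hnn : ¬ (T : Subgroup G).Normal) (hC : ElemCent G) (u : G) (hu : orderOf u = 2)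
    (huN : u ∉ nT T) {n : G} (hn : n ∈ normalizer ((dT T u : Subgroup G) : Set G)) :
    n ∈ dT T u ∨ u * n ∈ dT T u := by
  have hun : u ∈ normalizer ((dT T u : Subgroup G) : Set G) :=
    ec_mem_normalizer_inter T hnc hnn hC u hu huN
  by_cases hnN : n ∈ nT T
  · left; exact ec_normalizer_inf T hnc hnn hC u hu huN hnN hn
  · right
    have hunn : u * n ∈ normalizer ((dT T u : Subgroup G) : Set G) := mul_mem hun hn
    by_cases hunN : u * n ∈ nT T
    · exact ec_normalizer_inf T hnc hnn hC u hu huN hunN hunn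
    · exfalso
      have hn2 := ec_involution_of_normalizer T hnc hnn hC u hu huN hn hnN
      have hun2 := ec_involution_of_normalizer T hnc hnn hC u hu huN hunn hunN
      have hinvu := ec_inverts T hnc hnn hC u hu huN
      have key : ∀ j : G, orderOf j = 2 → j ∉ nT T →
          j ∈ normalizer ((dT T u : Subgroup G) : Set G) →
          ∀ d ∈ dT T u, j * d * j⁻¹ = d⁻¹ := by
        intro j hj hjN hjn d hd
        have hle : ∀ d ∈ dT T u, j⁻¹ * d * j ∈ nT T := by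
          intro d hd
          have h0 := (mem_normalizer_iff.mp (inv_mem hjn) d).mp hd
          rw [inv_inv] at h0
          exact (Subgroup.mem_inf.mp h0).1
        have heq := ec_inter_eq_of_le T hnc hnn hC u hu huN j hj hjN hle
        exact ec_inverts T hnc hnn hC j hj hjN d (by rw [heq]; exact hd)
      have hinvn := key n hn2 hnN hn
      have hinvun := key (u * n) hun2 hunN hunn
      obtain ⟨e, he, he1⟩ := ec_exists_ne_one_inter T hnc hnn hC u hu huN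
      have h1 : (u * n) * e * (u * n)⁻¹ = e := by
        calc (u * n) * e * (u * n)⁻¹ = u * (n * e * n⁻¹) * u⁻¹ := by group
          _ = u * e⁻¹ * u⁻¹ := by rw [hinvn e he]
          _ = (u * e * u⁻¹)⁻¹ := by group
          _ = e := by rw [hinvu e he, inv_inv]
      have h2 := hinvun e he
      rw [h1] at h2
      have h3 : e * e = 1 := by
        have h0 := mul_inv_cancel e
        rwa [← h2] at h0
      have h4 : e ^ 2 = 1 := by rw [pow_two]; exact h3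
      exact he1 (eq_one_of_sq_eq_one_of_odd
        ((ec_stronglyEmbedded T hnc hnn hC).2.2 u huN) he h4)

/-- `N_G(D) = D ⟨u⟩`. -/
theorem ec_normalizer_inter_eq (T : Sylow 2 G) (hnc : ¬ IsCyclic (T : Subgroup G))
    (hnn : ¬ (T : Subgroup G).Normal) (hC : ElemCent G) (u : G) (hu : orderOf u = 2)
    (huN : u ∉ nT T) :
    normalizer ((dT T u : Subgroup G) : Set G) = dT T u ⊔ zpowers u := by
  apply le_antisymm
  · intro n hn
    rcases ec_normalizer_cases T hnc hnn hC u hu huN hn with h | h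
    · exact (le_sup_left : dT T u ≤ dT T u ⊔ zpowers u) h
    · have h1 : n = u⁻¹ * (u * n) := by group
      rw [h1]
      exact mul_mem ((le_sup_right : zpowers u ≤ dT T u ⊔ zpowers u)
        (inv_mem (mem_zpowers u))) ((le_sup_left : dT T u ≤ dT T u ⊔ zpowers u) h)
  · apply sup_le le_normalizer
    rw [zpowers_le]
    exact ec_mem_normalizer_inter T hnc hnn hC u hu huN

/-- The cosets of `N` fixed by `D` are `N` and `uN`. -/
theorem ec_fixed_cosets (T : Sylow 2 G) (hnc : ¬ IsCyclic (T : Subgroup G))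
    (hnn : ¬ (T : Subgroup G).Normal) (hC : ElemCent G) (u : G) (hu : orderOf u = 2)
    (huN : u ∉ nT T) (g : G) :
    (∀ d ∈ dT T u, d • (QuotientGroup.mk g : G ⧸ nT T) = QuotientGroup.mk g) ↔
      ((QuotientGroup.mk g : G ⧸ nT T) = QuotientGroup.mk 1 ∨
        (QuotientGroup.mk g : G ⧸ nT T) = QuotientGroup.mk u) := by
  constructor
  · intro hfix
    by_cases hgN : g ∈ nT T
    · left
      rw [QuotientGroup.eq]; exact mul_mem (inv_mem hgN) (one_mem _)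
    · right
      obtain ⟨i, hi2, hi1, hiN⟩ := ec_exists_involution_coset T hnc hnn hC hgN
      have hle : ∀ d ∈ dT T u, i⁻¹ * d * i ∈ nT T := by
        intro d hd
        have h1 : g⁻¹ * d * g ∈ nT T := (smul_mk_eq_mk_iff (nT T) d g g).mp (hfix d hd)
        have h2 : i⁻¹ * d * i = (g⁻¹ * i)⁻¹ * (g⁻¹ * d * g) * (g⁻¹ * i) := by group
        rw [h2]
        exact mul_mem (mul_mem (inv_mem hi1) h1) hi1
      have heq := ec_inter_eq_of_le T hnc hnn hC u hu huN i hi2 hiN hle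
      have hin : i ∈ normalizer ((dT T u : Subgroup G) : Set G) := by
        rw [← heq]; exact ec_mem_normalizer_inter T hnc hnn hC i hi2 hiN
      rcases ec_normalizer_cases T hnc hnn hC u hu huN hin with h | h
      · exact absurd (Subgroup.mem_inf.mp h).1 hiN
      · have hui : u⁻¹ = u := inv_eq_of_mul_eq_one_left (mul_self_of_orderOf_two hu)
        have h1 : (QuotientGroup.mk g : G ⧸ nT T) = QuotientGroup.mk i := by
          rw [QuotientGroup.eq]; exact hi1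
        have h2 : (QuotientGroup.mk u : G ⧸ nT T) = QuotientGroup.mk i := by
          rw [QuotientGroup.eq, hui]; exact (Subgroup.mem_inf.mp h).1
        rw [h1, h2]
  · rintro (h | h) d hd
    · rw [h, smul_mk_eq_mk_iff]
      simpa using (Subgroup.mem_inf.mp hd).1
    · rw [h, smul_mk_eq_mk_iff]
      exact mem_map_conj.mp (Subgroup.mem_inf.mp hd).2

/-! ### Triple transitivity -/

theorem ec_exists_involution_not_mem (T : Sylow 2 G) (hnc : ¬ IsCyclic (T : Subgroup G))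
    (hnn : ¬ (T : Subgroup G).Normal) (hC : ElemCent G) : ∃ u : G, orderOf u = 2 ∧ u ∉ nT T := by
  obtain ⟨hexp, -⟩ := ec_sylow_elementary T hnc hC
  obtain ⟨t₀, ht₀T, ht₀1⟩ := ec_exists_ne_one T hnc
  have ht₀2 : orderOf t₀ = 2 := orderOf_eq_prime (hexp t₀ ht₀T) ht₀1
  have hne : nT T ≠ ⊤ := fun h => hnn (normalizer_eq_top_iff.mp h)
  obtain ⟨g, hg⟩ : ∃ g : G, g ∉ nT T := by
    by_contra hcon
    apply hne
    rw [eq_top_iff]
    intro x _
    by_contra hx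
    exact hcon ⟨x, hx⟩
  refine ⟨g * t₀ * g⁻¹, orderOf_conj_two g ht₀2, ?_⟩
  intro h
  have hT := ec_mem_sylow_of_mem_normalizer T (orderOf_conj_two g ht₀2) h
  have h1 : g⁻¹ ∈ nT T :=
    ec_mem_normalizer_of_conj_mem T hnc hC ht₀T ht₀1 (by rw [inv_inv]; exact hT)
  exact hg ((inv_mem_iff (H := nT T)).mp h1)

theorem ec_sylow_free (T : Sylow 2 G) (hnc : ¬ IsCyclic (T : Subgroup G))
    (hnn : ¬ (T : Subgroup G).Normal) (hC : ElemCent G) {t g : G}
    (ht : t ∈ (T : Subgroup G)) (hg : g ∉ nT T)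
    (h : t • (QuotientGroup.mk g : G ⧸ nT T) = QuotientGroup.mk g) : t = 1 := by
  by_contra ht1
  have hSE := ec_stronglyEmbedded T hnc hnn hC
  have ht2 : orderOf t = 2 := orderOf_eq_prime ((ec_sylow_elementary T hnc hC).1 t ht) ht1
  rw [smul_mk_eq_mk_iff] at h
  exact hg (se_mem_of_conj_mem hSE (le_normalizer ht) ht2 h)

/-- Two subgroups `N ∩ uNu⁻¹`, `N ∩ iNi⁻¹` are conjugate under `T`. -/
theorem ec_inter_conj (T : Sylow 2 G) (hnc : ¬ IsCyclic (T : Subgroup G))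
    (hnn : ¬ (T : Subgroup G).Normal) (hC : ElemCent G) (u : G) (hu : orderOf u = 2)
    (huN : u ∉ nT T) (i : G) (hi : orderOf i = 2) (hiN : i ∉ nT T) :
    ∃ s ∈ (T : Subgroup G), ∀ d ∈ dT T u, s * d * s⁻¹ ∈ dT T i := by
  obtain ⟨e', he', he'1⟩ := ec_exists_ne_one_inter T hnc hnn hC i hi hiN
  obtain ⟨d₀, hd₀, t₁, ht₁, he'eq⟩ :=
    ec_exists_mul T hnc hnn hC u hu huN (Subgroup.mem_inf.mp he').1
  have hd₀1 : d₀ ≠ 1 := by
    intro h
    rw [h, one_mul] at he'eq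
    exact he'1 (ec_inter_sylow T hnc hnn hC i hiN he' (by rw [he'eq]; exact ht₁))
  have hd₀N : d₀ ∈ nT T := (Subgroup.mem_inf.mp hd₀).1
  have hψmem : ∀ s ∈ (T : Subgroup G), d₀⁻¹ * s * d₀ * s⁻¹ ∈ (T : Subgroup G) := by
    intro s hs
    have h1 : d₀⁻¹ * s * d₀ ∈ (T : Subgroup G) := by
      have h0 := (mem_normalizer_iff.mp (inv_mem hd₀N) s).mp hs
      rwa [inv_inv] at h0
    exact mul_mem h1 (inv_mem hs)
  have hψinj : Function.Injective (fun s : (T : Subgroup G) =>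
      (⟨d₀⁻¹ * s * d₀ * (s : G)⁻¹, hψmem s s.2⟩ : (T : Subgroup G))) := by
    intro s s' h
    have h1 : d₀⁻¹ * s * d₀ * (s : G)⁻¹ = d₀⁻¹ * s' * d₀ * (s' : G)⁻¹ := congrArg Subtype.val h
    by_contra hne
    have h2 : (s' : G)⁻¹ * s ≠ 1 := by
      intro h3
      apply hne
      apply Subtype.ext
      exact (inv_mul_eq_one.mp h3).symm
    have h4 : (s : G) * d₀ * (s : G)⁻¹ = s' * d₀ * (s' : G)⁻¹ := by
      calc (s : G) * d₀ * (s : G)⁻¹ = d₀ * (d₀⁻¹ * s * d₀ * (s : G)⁻¹) := by group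
        _ = d₀ * (d₀⁻¹ * s' * d₀ * (s' : G)⁻¹) := by rw [h1]
        _ = s' * d₀ * (s' : G)⁻¹ := by group
    have h3 : ((s' : G)⁻¹ * s) * d₀ = d₀ * ((s' : G)⁻¹ * s) := by
      calc ((s' : G)⁻¹ * s) * d₀ = (s' : G)⁻¹ * (s * d₀ * (s : G)⁻¹) * s := by group
        _ = (s' : G)⁻¹ * (s' * d₀ * (s' : G)⁻¹) * s := by rw [h4]
        _ = d₀ * ((s' : G)⁻¹ * s) := by group
    exact hd₀1 (ec_conj_free T hnc hnn hC u huN hd₀ (mul_mem (inv_mem s'.2) s.2) h2 h3)
  have hψsurj := Finite.injective_iff_surjective.mp hψinj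
  obtain ⟨s, hs⟩ := hψsurj ⟨t₁, ht₁⟩
  have hs' : d₀⁻¹ * s * d₀ * (s : G)⁻¹ = t₁ := congrArg Subtype.val hs
  have hconj : (s : G) * d₀ * (s : G)⁻¹ = e' := by
    rw [he'eq, ← hs']; group
  refine ⟨s, s.2, ?_⟩
  intro d hd
  have hcN : (s : G) * d * (s : G)⁻¹ ∈ nT T :=
    mul_mem (mul_mem (le_normalizer s.2) (Subgroup.mem_inf.mp hd).1)
      (inv_mem (le_normalizer s.2))
  obtain ⟨d', hd', t', ht', hc⟩ := ec_exists_mul T hnc hnn hC i hi hiN hcN
  have hcomm1 : ((s : G) * d * (s : G)⁻¹) * e' = e' * ((s : G) * d * (s : G)⁻¹) := by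
    rw [← hconj]
    have h1 := ec_inter_comm T hnc hnn hC u hu huN d hd d₀ hd₀
    calc (s : G) * d * (s : G)⁻¹ * (s * d₀ * (s : G)⁻¹) = s * (d * d₀) * (s : G)⁻¹ := by group
      _ = s * (d₀ * d) * (s : G)⁻¹ := by rw [h1]
      _ = s * d₀ * (s : G)⁻¹ * (s * d * (s : G)⁻¹) := by group
  have hcomm2 : d' * e' = e' * d' := ec_inter_comm T hnc hnn hC i hi hiN d' hd' e' he'
  have hcomm2' : d'⁻¹ * e' = e' * d'⁻¹ := by
    calc d'⁻¹ * e' = d'⁻¹ * (e' * d') * d'⁻¹ := by group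
      _ = d'⁻¹ * (d' * e') * d'⁻¹ := by rw [hcomm2]
      _ = e' * d'⁻¹ := by group
  have ht'eq : t' = d'⁻¹ * ((s : G) * d * (s : G)⁻¹) := by rw [hc]; group
  have hcomm3 : t' * e' = e' * t' := by
    rw [ht'eq]
    calc d'⁻¹ * ((s : G) * d * (s : G)⁻¹) * e'
        = d'⁻¹ * (((s : G) * d * (s : G)⁻¹) * e') := by group
      _ = d'⁻¹ * (e' * ((s : G) * d * (s : G)⁻¹)) := by rw [hcomm1]
      _ = (d'⁻¹ * e') * ((s : G) * d * (s : G)⁻¹) := by group
      _ = (e' * d'⁻¹) * ((s : G) * d * (s : G)⁻¹) := by rw [hcomm2']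
      _ = e' * (d'⁻¹ * ((s : G) * d * (s : G)⁻¹)) := by group
  have ht'1 : t' = 1 := by
    by_contra h
    exact he'1 (ec_conj_free T hnc hnn hC i hiN he' ht' h hcomm3)
  rw [hc, ht'1, mul_one]; exact hd'

theorem ec_sylow_transitive (T : Sylow 2 G) (hnc : ¬ IsCyclic (T : Subgroup G))
    (hnn : ¬ (T : Subgroup G).Normal) (hC : ElemCent G) (u : G) (hu : orderOf u = 2)
    (huN : u ∉ nT T) {g : G} (hg : g ∉ nT T) :
    ∃ t ∈ (T : Subgroup G), t • (QuotientGroup.mk u : G ⧸ nT T) = QuotientGroup.mk g := by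
  obtain ⟨i, hi2, hi1, hiN⟩ := ec_exists_involution_coset T hnc hnn hC hg
  obtain ⟨s, hs, hsD⟩ := ec_inter_conj T hnc hnn hC u hu huN i hi2 hiN
  have hfix : ∀ d ∈ dT T u, d • (QuotientGroup.mk (s⁻¹ * i) : G ⧸ nT T)
      = QuotientGroup.mk (s⁻¹ * i) := by
    intro d hd
    rw [smul_mk_eq_mk_iff]
    have h1 := mem_map_conj.mp (Subgroup.mem_inf.mp (hsD d hd)).2
    have h2 : (s⁻¹ * i)⁻¹ * d * (s⁻¹ * i) = i⁻¹ * (s * d * s⁻¹) * i := by group
    rw [h2]; exact h1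
  rcases (ec_fixed_cosets T hnc hnn hC u hu huN (s⁻¹ * i)).mp hfix with h | h
  · exfalso
    rw [QuotientGroup.eq] at h
    apply hiN
    have h3 : i = s * ((s⁻¹ * i)⁻¹ * 1)⁻¹ := by group
    rw [h3]; exact mul_mem (le_normalizer hs) (inv_mem h)
  · refine ⟨s, hs, ?_⟩
    rw [← h, MulAction.Quotient.smul_mk, smul_eq_mul, QuotientGroup.eq]
    have h3 : (s * (s⁻¹ * i))⁻¹ * g = (g⁻¹ * i)⁻¹ := by group
    rw [h3]; exact inv_mem hi1

theorem mk_ne_mk_one_of_not_mem {H : Subgroup G} {g : G} (hg : g ∉ H) :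
    (QuotientGroup.mk g : G ⧸ H) ≠ QuotientGroup.mk 1 := by
  intro h
  rw [QuotientGroup.eq] at h
  apply hg
  have h3 : g = (g⁻¹ * 1)⁻¹ := by group
  rw [h3]; exact inv_mem h

theorem not_mem_of_mk_ne_mk_one {H : Subgroup G} {g : G}
    (hg : (QuotientGroup.mk g : G ⧸ H) ≠ QuotientGroup.mk 1) : g ∉ H := by
  intro h
  apply hg
  rw [QuotientGroup.eq]; exact mul_mem (inv_mem h) (one_mem _)

/-- `T` acts regularly on the cosets different from `N`. -/
theorem ec_sylow_regular (T : Sylow 2 G) (hnc : ¬ IsCyclic (T : Subgroup G))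
    (hnn : ¬ (T : Subgroup G).Normal) (hC : ElemCent G) (x y : G ⧸ nT T)
    (hx : x ≠ QuotientGroup.mk 1) (hy : y ≠ QuotientGroup.mk 1) :
    ∃! t : G, t ∈ (T : Subgroup G) ∧ t • x = y := by
  obtain ⟨u, hu, huN⟩ := ec_exists_involution_not_mem T hnc hnn hC
  obtain ⟨a, rfl⟩ := QuotientGroup.mk_surjective x
  obtain ⟨b, rfl⟩ := QuotientGroup.mk_surjective y
  have haN : a ∉ nT T := not_mem_of_mk_ne_mk_one hx
  have hbN : b ∉ nT T := not_mem_of_mk_ne_mk_one hy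
  obtain ⟨t₁, ht₁, h1⟩ := ec_sylow_transitive T hnc hnn hC u hu huN haN
  obtain ⟨t₂, ht₂, h2⟩ := ec_sylow_transitive T hnc hnn hC u hu huN hbN
  have hfirst : (t₂ * t₁⁻¹) • (QuotientGroup.mk a : G ⧸ nT T) = QuotientGroup.mk b := by
    rw [← h1, mul_smul, inv_smul_smul, h2]
  refine ⟨t₂ * t₁⁻¹, ⟨mul_mem ht₂ (inv_mem ht₁), hfirst⟩, ?_⟩
  rintro t ⟨ht, htx⟩
  have hfix : ((t₂ * t₁⁻¹)⁻¹ * t) • (QuotientGroup.mk a : G ⧸ nT T) = QuotientGroup.mk a := by
    rw [mul_smul, htx, ← hfirst, inv_smul_smul]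
  have h3 := ec_sylow_free T hnc hnn hC
    (mul_mem (inv_mem (mul_mem ht₂ (inv_mem ht₁))) ht) haN hfix
  exact (inv_mul_eq_one.mp h3).symm

theorem ec_two_transitive (T : Sylow 2 G) (hnc : ¬ IsCyclic (T : Subgroup G))
    (hnn : ¬ (T : Subgroup G).Normal) (hC : ElemCent G) (u : G) (huN : u ∉ nT T)
    (x₁ x₂ : G ⧸ nT T) (h : x₁ ≠ x₂) :
    ∃ g : G, g • x₁ = QuotientGroup.mk 1 ∧ g • x₂ = QuotientGroup.mk u := by
  obtain ⟨a, rfl⟩ := QuotientGroup.mk_surjective x₁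
  have h1 : a⁻¹ • (QuotientGroup.mk a : G ⧸ nT T) = QuotientGroup.mk 1 := by
    rw [MulAction.Quotient.smul_mk, smul_eq_mul, inv_mul_cancel]
  have h2 : a⁻¹ • x₂ ≠ QuotientGroup.mk 1 := by
    intro h3
    apply h
    rw [← h1] at h3
    exact (smul_left_cancel a⁻¹ h3).symm
  obtain ⟨t, ⟨htT, ht⟩, -⟩ := ec_sylow_regular T hnc hnn hC _ _ h2
    (mk_ne_mk_one_of_not_mem huN)
  refine ⟨t * a⁻¹, ?_, ?_⟩
  · rw [mul_smul, h1, smul_mk_eq_mk_iff]
    have h5 : t ∈ nT T := le_normalizer htT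
    simpa using h5
  · rw [mul_smul]; exact ht

theorem ec_inter_transitive (T : Sylow 2 G) (hnc : ¬ IsCyclic (T : Subgroup G))
    (hnn : ¬ (T : Subgroup G).Normal) (hC : ElemCent G) (u : G) (hu : orderOf u = 2)
    (huN : u ∉ nT T) (z z' : G ⧸ nT T) (hz1 : z ≠ QuotientGroup.mk 1)
    (hzu : z ≠ QuotientGroup.mk u) (hz'1 : z' ≠ QuotientGroup.mk 1)
    (hz'u : z' ≠ QuotientGroup.mk u) : ∃ d ∈ dT T u, d • z = z' := by
  have hSE := ec_stronglyEmbedded T hnc hnn hC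
  obtain ⟨hexp, -⟩ := ec_sylow_elementary T hnc hC
  have hu1 : (QuotientGroup.mk u : G ⧸ nT T) ≠ QuotientGroup.mk 1 :=
    mk_ne_mk_one_of_not_mem huN
  obtain ⟨t, ⟨htT, ht⟩, -⟩ := ec_sylow_regular T hnc hnn hC _ _ hu1 hz1
  obtain ⟨t', ⟨ht'T, ht'⟩, -⟩ := ec_sylow_regular T hnc hnn hC _ _ hu1 hz'1
  have ht1 : t ≠ 1 := by
    intro h
    rw [h, one_smul] at ht
    exact hzu ht.symm
  have ht'1 : t' ≠ 1 := by
    intro h
    rw [h, one_smul] at ht'
    exact hz'u ht'.symm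
  obtain ⟨d, hd, hdt⟩ := se_conj_in_inter hSE u hu huN t t'
    (orderOf_eq_prime (hexp t htT) ht1) (le_normalizer htT)
    (orderOf_eq_prime (hexp t' ht'T) ht'1) (le_normalizer ht'T)
  have hdu : d • (QuotientGroup.mk u : G ⧸ nT T) = QuotientGroup.mk u :=
    ((ec_fixed_cosets T hnc hnn hC u hu huN u).mpr (Or.inr rfl)) d hd
  have hdu' : d⁻¹ • (QuotientGroup.mk u : G ⧸ nT T) = QuotientGroup.mk u := by
    rw [inv_smul_eq_iff]; exact hdu.symm
  refine ⟨d, hd, ?_⟩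
  rw [← ht, ← ht', ← hdt, mul_smul, mul_smul, hdu']

/-- `G` is triply transitive on the cosets of `N`. -/
theorem ec_three_transitive (T : Sylow 2 G) (hnc : ¬ IsCyclic (T : Subgroup G))
    (hnn : ¬ (T : Subgroup G).Normal) (hC : ElemCent G) (x₁ x₂ x₃ y₁ y₂ y₃ : G ⧸ nT T)
    (hx12 : x₁ ≠ x₂) (hx13 : x₁ ≠ x₃) (hx23 : x₂ ≠ x₃) (hy12 : y₁ ≠ y₂) (hy13 : y₁ ≠ y₃)
    (hy23 : y₂ ≠ y₃) : ∃ g : G, g • x₁ = y₁ ∧ g • x₂ = y₂ ∧ g • x₃ = y₃ := by
  obtain ⟨u, hu, huN⟩ := ec_exists_involution_not_mem T hnc hnn hC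
  obtain ⟨g₁, hg₁1, hg₁2⟩ := ec_two_transitive T hnc hnn hC u huN x₁ x₂ hx12
  obtain ⟨g₂, hg₂1, hg₂2⟩ := ec_two_transitive T hnc hnn hC u huN y₁ y₂ hy12
  have hz1 : g₁ • x₃ ≠ QuotientGroup.mk 1 := by
    intro h
    rw [← hg₁1] at h
    exact hx13 (smul_left_cancel g₁ h).symm
  have hzu : g₁ • x₃ ≠ QuotientGroup.mk u := by
    intro h
    rw [← hg₁2] at h
    exact hx23 (smul_left_cancel g₁ h).symm
  have hz'1 : g₂ • y₃ ≠ QuotientGroup.mk 1 := by
    intro h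
    rw [← hg₂1] at h
    exact hy13 (smul_left_cancel g₂ h).symm
  have hz'u : g₂ • y₃ ≠ QuotientGroup.mk u := by
    intro h
    rw [← hg₂2] at h
    exact hy23 (smul_left_cancel g₂ h).symm
  obtain ⟨d, hd, hdz⟩ := ec_inter_transitive T hnc hnn hC u hu huN _ _ hz1 hzu hz'1 hz'u
  have hd1 : d • (QuotientGroup.mk 1 : G ⧸ nT T) = QuotientGroup.mk 1 :=
    ((ec_fixed_cosets T hnc hnn hC u hu huN 1).mpr (Or.inl rfl)) d hd
  have hdu : d • (QuotientGroup.mk u : G ⧸ nT T) = QuotientGroup.mk u :=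
    ((ec_fixed_cosets T hnc hnn hC u hu huN u).mpr (Or.inr rfl)) d hd
  refine ⟨g₂⁻¹ * d * g₁, ?_, ?_, ?_⟩
  · rw [mul_smul, mul_smul, hg₁1, hd1, ← hg₂1, inv_smul_smul]
  · rw [mul_smul, mul_smul, hg₁2, hdu, ← hg₂2, inv_smul_smul]
  · rw [mul_smul, mul_smul, hdz, inv_smul_smul]

/-- An element fixing three distinct cosets of `N` is trivial. -/
theorem ec_three_fixed (T : Sylow 2 G) (hnc : ¬ IsCyclic (T : Subgroup G))
    (hnn : ¬ (T : Subgroup G).Normal) (hC : ElemCent G) (g : G) (x₁ x₂ x₃ : G ⧸ nT T)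
    (h12 : x₁ ≠ x₂) (h13 : x₁ ≠ x₃) (h23 : x₂ ≠ x₃) (hg1 : g • x₁ = x₁) (hg2 : g • x₂ = x₂)
    (hg3 : g • x₃ = x₃) : g = 1 := by
  obtain ⟨u, hu, huN⟩ := ec_exists_involution_not_mem T hnc hnn hC
  obtain ⟨g₁, hg₁1, hg₁2⟩ := ec_two_transitive T hnc hnn hC u huN x₁ x₂ h12
  have hz1 : g₁ • x₃ ≠ QuotientGroup.mk 1 := by
    intro h
    rw [← hg₁1] at h
    exact h13 (smul_left_cancel g₁ h).symm
  have hzu : g₁ • x₃ ≠ QuotientGroup.mk u := by
    intro h
    rw [← hg₁2] at h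
    exact h23 (smul_left_cancel g₁ h).symm
  have hf1 : (g₁ * g * g₁⁻¹) • (QuotientGroup.mk 1 : G ⧸ nT T) = QuotientGroup.mk 1 := by
    rw [← hg₁1, mul_smul, mul_smul, inv_smul_smul, hg1]
  have hfu : (g₁ * g * g₁⁻¹) • (QuotientGroup.mk u : G ⧸ nT T) = QuotientGroup.mk u := by
    rw [← hg₁2, mul_smul, mul_smul, inv_smul_smul, hg2]
  have hfz : (g₁ * g * g₁⁻¹) • (g₁ • x₃) = g₁ • x₃ := by
    rw [mul_smul, mul_smul, inv_smul_smul, hg3]
  have hgD : g₁ * g * g₁⁻¹ ∈ dT T u := by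
    refine Subgroup.mem_inf.mpr ⟨?_, ?_⟩
    · have h0 := (smul_mk_eq_mk_iff (nT T) (g₁ * g * g₁⁻¹) 1 1).mp hf1
      simpa using h0
    · rw [mem_map_conj]
      exact (smul_mk_eq_mk_iff (nT T) (g₁ * g * g₁⁻¹) u u).mp hfu
  have hu1 : (QuotientGroup.mk u : G ⧸ nT T) ≠ QuotientGroup.mk 1 :=
    mk_ne_mk_one_of_not_mem huN
  obtain ⟨t, ⟨htT, ht⟩, huniq⟩ := ec_sylow_regular T hnc hnn hC _ _ hu1 hz1
  have ht1 : t ≠ 1 := by
    intro h
    rw [h, one_smul] at ht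
    exact hzu ht.symm
  have hconjT : (g₁ * g * g₁⁻¹) * t * (g₁ * g * g₁⁻¹)⁻¹ ∈ (T : Subgroup G) :=
    (mem_normalizer_iff.mp (Subgroup.mem_inf.mp hgD).1 t).mp htT
  have hinvu : (g₁ * g * g₁⁻¹)⁻¹ • (QuotientGroup.mk u : G ⧸ nT T) = QuotientGroup.mk u := by
    rw [inv_smul_eq_iff]; exact hfu.symm
  have hconj_smul : ((g₁ * g * g₁⁻¹) * t * (g₁ * g * g₁⁻¹)⁻¹) •
      (QuotientGroup.mk u : G ⧸ nT T) = g₁ • x₃ := by
    rw [mul_smul, mul_smul, hinvu, ht, hfz]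
  have heq := huniq _ ⟨hconjT, hconj_smul⟩
  have hcomm : t * (g₁ * g * g₁⁻¹) = (g₁ * g * g₁⁻¹) * t :=
    (mul_inv_eq_iff_eq_mul.mp heq).symm
  have h1 := ec_conj_free T hnc hnn hC u huN hgD htT ht1 hcomm
  have h0 : g = g₁⁻¹ * (g₁ * g * g₁⁻¹) * g₁ := by group
  rw [h0, h1]; group

end ec2

end Cfsg.Agent.Lib.Helper21
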