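import Mathlib
import Cfsg.Prelude.Def_Local
import Cfsg.Agent.Lib.Helper21.HallPQ
import Cfsg.Agent.Lib.Helper88.CharPNil
import Cfsg.Agent.Lib.Helper88.CharFus
import Cfsg.Agent.Lib.Helper54.Frobenius
import Cfsg.Agent.Lib.Helper57.HSubA

/-!
# Thompson's lemma on `q`-automizers of `p`-subgroups (helper21, S4411)

If all automizers of `p`-subgroups are `p`-soluble, `{p, q} ≠ {2, 3}`, and `q` divides the order
of some automizer of a `p`-subgroup, then `q` divides the order of the automizer of a normal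
subgroup of a Sylow `p`-subgroup.
-/

set_option autoImplicit false

namespace Cfsg.Agent.Lib.Helper21.HPQ

open Subgroup Cfsg

universe u

/-- Some `q`-element of `N(K)` does not centralize `K`. -/
def QAct (q : ℕ) {G : Type*} [Group G] (K : Subgroup G) : Prop :=
  ∃ y ∈ normalizer (K : Set G), y ∉ centralizer (K : Set G) ∧ ∃ k : ℕ, y ^ q ^ k = 1

theorem exists_qelt_of_dvd_relIndex {X : Type*} [Group X] [Finite X] (q : ℕ) [Fact q.Prime]
    (C L : Subgroup X) (h : q ∣ C.relIndex L) : ∃ y ∈ L, y ∉ C ∧ ∃ k : ℕ, y ^ q ^ k = 1 := by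
  obtain ⟨Q⟩ : Nonempty (Sylow q L) := inferInstance
  have h1 : ¬ (Q : Subgroup L) ≤ C.subgroupOf L := by
    intro hle
    exact Q.not_dvd_index (h.trans (Subgroup.index_dvd_of_le hle))
  obtain ⟨y, hyQ, hyC⟩ := SetLike.not_le_iff_exists.mp h1
  refine ⟨(y : X), y.2, fun hc => hyC (Subgroup.mem_subgroupOf.mpr hc), ?_⟩
  obtain ⟨k, hk⟩ := Q.isPGroup' ⟨y, hyQ⟩
  refine ⟨k, ?_⟩
  have h2 := congrArg (fun z : (Q : Subgroup L) => ((z : L) : X)) hk
  simpa using h2

theorem qact_of_dvd {G : Type*} [Group G] [Finite G] (q : ℕ) [Fact q.Prime] (K : Subgroup G)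
    (h : q ∣ ((centralizer (K : Set G)).subgroupOf (normalizer (K : Set G))).index) :
    QAct q K := by
  obtain ⟨y, hyN, hyC, hk⟩ := exists_qelt_of_dvd_relIndex q (centralizer (K : Set G))
    (normalizer (K : Set G)) h
  exact ⟨y, hyN, hyC, hk⟩

theorem dvd_of_qact {G : Type*} [Group G] [Finite G] (q : ℕ) [Fact q.Prime] (K : Subgroup G)
    (h : QAct q K) :
    q ∣ ((centralizer (K : Set G)).subgroupOf (normalizer (K : Set G))).index := by
  have hq : q.Prime := Fact.out
  obtain ⟨y, hyN, hyC, k, hk⟩ := h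
  by_contra hnd
  apply hyC
  have h1 : ((⟨y, hyN⟩ : normalizer (K : Set G)) :
      normalizer (K : Set G) ⧸ (centralizer (K : Set G)).subgroupOf (normalizer (K : Set G))) ^
        q ^ k = 1 := by
    rw [← QuotientGroup.mk_pow]
    have h2 : (⟨y, hyN⟩ : normalizer (K : Set G)) ^ q ^ k = 1 := Subtype.ext (by simpa using hk)
    rw [h2]; rfl
  have h3 := orderOf_dvd_of_pow_eq_one h1
  have h4 := orderOf_dvd_natCard ((⟨y, hyN⟩ : normalizer (K : Set G)) :
      normalizer (K : Set G) ⧸ (centralizer (K : Set G)).subgroupOf (normalizer (K : Set G)))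
  rw [← Subgroup.index_eq_card] at h4
  have hcop : (q ^ k).Coprime
      ((centralizer (K : Set G)).subgroupOf (normalizer (K : Set G))).index :=
    Nat.Coprime.pow_left k ((Nat.Prime.coprime_iff_not_dvd hq).mpr hnd)
  have h5 := Nat.eq_one_of_dvd_coprimes hcop h3 h4
  have h6 := orderOf_eq_one_iff.mp h5
  have h7 := (QuotientGroup.eq_one_iff _).mp h6
  exact Subgroup.mem_subgroupOf.mp h7

theorem qact_conj {G : Type*} [Group G] (q : ℕ) (K : Subgroup G) (g : G) (h : QAct q K) :
    QAct q (K.map (MulAut.conj g).toMonoidHom) := by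
  obtain ⟨y, hyN, hyC, k, hk⟩ := h
  refine ⟨g * y * g⁻¹, ?_, ?_, k, ?_⟩
  · rw [mem_normalizer_iff]
    intro h
    rw [mem_map_conj, mem_map_conj]
    have h1 := (mem_normalizer_iff.mp hyN) (g⁻¹ * h * g)
    have h2 : g⁻¹ * (g * y * g⁻¹ * h * (g * y * g⁻¹)⁻¹) * g = y * (g⁻¹ * h * g) * y⁻¹ := by group
    rw [h2]; exact h1
  · intro hc
    apply hyC
    rw [mem_centralizer_iff] at hc ⊢
    intro h hh
    have h0 : g * h * g⁻¹ ∈ K.map (MulAut.conj g).toMonoidHom := by
      rw [mem_map_conj]
      have : g⁻¹ * (g * h * g⁻¹) * g = h := by group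
      rw [this]; exact hh
    have h1 := hc (g * h * g⁻¹) h0
    have h2 : h * y = g⁻¹ * (g * h * g⁻¹ * (g * y * g⁻¹)) * g := by group
    rw [h2, h1]; group
  · rw [conj_pow, hk]; group

theorem map_conj_le_normalizer {G : Type*} [Group G] (R H : Subgroup G) (g : G)
    (h : R ≤ normalizer (H : Set G)) :
    R.map (MulAut.conj g).toMonoidHom ≤
      normalizer ((H.map (MulAut.conj g).toMonoidHom : Subgroup G) : Set G) := by
  intro x hx
  rw [mem_map_conj] at hx
  have hx' := h hx
  rw [mem_normalizer_iff] at hx' ⊢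
  intro a
  rw [mem_map_conj, mem_map_conj]
  have h1 := hx' (g⁻¹ * a * g)
  have h2 : g⁻¹ * x * g * (g⁻¹ * a * g) * (g⁻¹ * x * g)⁻¹ = g⁻¹ * (x * a * x⁻¹) * g := by group
  rw [h2] at h1; exact h1

theorem mem_smul_sylow {G : Type*} [Group G] {p : ℕ} (S : Sylow p G) (g x : G) :
    x ∈ ((g • S : Sylow p G) : Subgroup G) ↔ g⁻¹ * x * g ∈ (S : Subgroup G) := by
  rw [Sylow.coe_subgroup_smul, Subgroup.mem_pointwise_smul_iff_inv_smul_mem]
  simp [MulAut.smul_def, mul_assoc]

theorem not_involves_S4 {X : Type u} [Group X] [Finite X] (h3 : ¬ 3 ∣ Nat.card X) :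
    ¬ Cfsg.Involves (Equiv.Perm (Fin 4)) X := by
  rintro ⟨K, R, hn, ⟨e⟩⟩
  apply h3
  have h1 : Nat.card (K ⧸ R.subgroupOf K) = 24 := by
    rw [Nat.card_congr e.toEquiv, Nat.card_eq_fintype_card, Fintype.card_perm]
    rfl
  have h2 : Nat.card (K ⧸ R.subgroupOf K) ∣ Nat.card K := Subgroup.card_quotient_dvd_card _
  have h3' : Nat.card K ∣ Nat.card X := Subgroup.card_subgroup_dvd_card K
  rw [h1] at h2
  exact (Dvd.intro 8 rfl : 3 ∣ 24).trans (h2.trans h3')

/-- Characteristic subgroups of `T`, computed inside an overgroup `Y`, are characteristic. -/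
theorem char_map_subtype {X : Type*} [Group X] {T Y : Subgroup X} (hTY : T ≤ Y)
    (Q' : Subgroup Y) (hQ'c : (Q'.subgroupOf (T.subgroupOf Y)).Characteristic) :
    ((Q'.map Y.subtype).subgroupOf T).Characteristic := by
  have hr : (Subgroup.inclusion hTY).range = T.subgroupOf Y := by
    ext y
    constructor
    · rintro ⟨t, rfl⟩
      exact Subgroup.mem_subgroupOf.mpr t.2
    · intro hy
      exact ⟨⟨y, Subgroup.mem_subgroupOf.mp hy⟩, rfl⟩
  have hker : (Subgroup.inclusion hTY).ker.Characteristic := by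
    rw [(MonoidHom.ker_eq_bot_iff _).mpr (Subgroup.inclusion_injective hTY)]
    exact Subgroup.botCharacteristic
  have h1 := Cfsg.Agent.Lib.Helper88.comap_characteristic (Subgroup.inclusion hTY) hker _ hr Q'
    hQ'c
  have h2 : Q'.comap (Subgroup.inclusion hTY) = (Q'.map Y.subtype).subgroupOf T := by
    ext t
    constructor
    · intro ht
      exact Subgroup.mem_subgroupOf.mpr ⟨_, ht, rfl⟩
    · intro ht
      obtain ⟨q, hq, hqt⟩ := Subgroup.mem_subgroupOf.mp ht
      have h3 : q = Subgroup.inclusion hTY t := Subtype.ext hqt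
      rw [Subgroup.mem_comap, ← h3]
      exact hq
  rw [← h2]
  exact h1

/-- The extremal step: a `p`-subgroup `H ≤ Gp` with a `q`-element acting nontrivially and
`|N_Gp(H)|` largest possible is normal in `Gp`. -/
theorem main_aux {G : Type u} [Group G] [Finite G] (p q : ℕ) [Fact p.Prime] [Fact q.Prime]
    (hpq : p ≠ q) (h23 : ¬ ((p = 2 ∧ q = 3) ∨ (p = 3 ∧ q = 2)))
    (hsol : ∀ H : Subgroup G, IsPGroup p ↥H →
      Cfsg.IsPSolvable p (↥(normalizer (H : Set G)) ⧸
        (centralizer (H : Set G)).subgroupOf (normalizer (H : Set G))))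
    (Gp : Sylow p G) (H : Subgroup G) (hHG : H ≤ (Gp : Subgroup G)) (hHq : QAct q H)
    (hmaxH : ∀ H' : Subgroup G, H' ≤ (Gp : Subgroup G) → QAct q H' →
      Nat.card ↥((Gp : Subgroup G) ⊓ normalizer (H' : Set G)) ≤
        Nat.card ↥((Gp : Subgroup G) ⊓ normalizer (H : Set G))) :
    (Gp : Subgroup G) ≤ normalizer (H : Set G) := by
  have hp : p.Prime := Fact.out
  have hq : q.Prime := Fact.out
  by_contra hnot
  have hP₁ne : (Gp : Subgroup G) ⊓ normalizer (H : Set G) ≠ (Gp : Subgroup G) := by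
    intro h
    exact hnot (inf_eq_left.mp h)
  have hHP₁ : H ≤ (Gp : Subgroup G) ⊓ normalizer (H : Set G) := le_inf hHG le_normalizer
  have hP₁p : IsPGroup p ↥((Gp : Subgroup G) ⊓ normalizer (H : Set G)) :=
    Gp.isPGroup'.to_le inf_le_left
  have hHp : IsPGroup p ↥H := Gp.isPGroup'.to_le hHG
  -- `P₁` is a Sylow subgroup of `N(H)`
  have hidx : ¬ p ∣ (((Gp : Subgroup G) ⊓ normalizer (H : Set G)).subgroupOf
      (normalizer (H : Set G))).index := by
    obtain ⟨R', hR'⟩ := (hP₁p.comap_subtype (K := normalizer (H : Set G))).exists_le_sylow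
    have hP₁R : (Gp : Subgroup G) ⊓ normalizer (H : Set G) ≤
        (R' : Subgroup (normalizer (H : Set G))).map (normalizer (H : Set G)).subtype := by
      intro x hx
      exact ⟨⟨x, hx.2⟩, hR' (Subgroup.mem_subgroupOf.mpr hx), rfl⟩
    have hRN : (R' : Subgroup (normalizer (H : Set G))).map (normalizer (H : Set G)).subtype ≤
        normalizer (H : Set G) := Subgroup.map_subtype_le _
    have hRp : IsPGroup p ↥((R' : Subgroup (normalizer (H : Set G))).map
        (normalizer (H : Set G)).subtype) := R'.isPGroup'.map _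
    obtain ⟨S, hRS⟩ := hRp.exists_le_sylow
    obtain ⟨g, hg⟩ := MulAction.exists_smul_eq G S Gp
    have hmem : ∀ x : G, g⁻¹ * x * g ∈ (S : Subgroup G) → x ∈ (Gp : Subgroup G) := by
      intro x hx
      rw [← hg]
      exact (mem_smul_sylow S g x).mpr hx
    have hH'G : H.map (MulAut.conj g).toMonoidHom ≤ (Gp : Subgroup G) := by
      intro x hx
      rw [mem_map_conj] at hx
      exact hmem x (hRS (hP₁R (hHP₁ hx)))
    have hH'q : QAct q (H.map (MulAut.conj g).toMonoidHom) := qact_conj q H g hHq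
    have hRle : ((R' : Subgroup (normalizer (H : Set G))).map
        (normalizer (H : Set G)).subtype).map (MulAut.conj g).toMonoidHom ≤
        (Gp : Subgroup G) ⊓ normalizer ((H.map (MulAut.conj g).toMonoidHom : Subgroup G) :
          Set G) := by
      refine le_inf ?_ (map_conj_le_normalizer _ H g hRN)
      intro x hx
      rw [mem_map_conj] at hx
      exact hmem x (hRS hx)
    have hc1 := Subgroup.card_le_of_le hRle
    rw [Subgroup.card_map_of_injective (MulAut.conj g).injective] at hc1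
    have hc2 := hmaxH _ hH'G hH'q
    have heq : (Gp : Subgroup G) ⊓ normalizer (H : Set G) =
        (R' : Subgroup (normalizer (H : Set G))).map (normalizer (H : Set G)).subtype :=
      Subgroup.eq_of_le_of_card_ge hP₁R (hc1.trans hc2)
    have heq' : ((Gp : Subgroup G) ⊓ normalizer (H : Set G)).subgroupOf
        (normalizer (H : Set G)) = (R' : Subgroup (normalizer (H : Set G))) := by
      rw [heq]
      exact Subgroup.comap_map_eq_self_of_injective (Subgroup.subtype_injective _) _
    rw [heq']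
    exact R'.not_dvd_index
  -- a `{p, q}`-subgroup over `P₁`
  have hP₁p' : IsPGroup p ↥(((Gp : Subgroup G) ⊓ normalizer (H : Set G)).subgroupOf
      (normalizer (H : Set G))) := hP₁p.comap_subtype
  obtain ⟨L, hL1', hL2, hL3⟩ := hallPQ p q hpq _ ↥(normalizer (H : Set G)) rfl
    ((centralizer (H : Set G)).subgroupOf (normalizer (H : Set G))) (hsol H hHp)
    (dvd_of_qact q H hHq) (hP₁p'.toSylow hidx)
  have hL1 : ((Gp : Subgroup G) ⊓ normalizer (H : Set G)).subgroupOf
      (normalizer (H : Set G)) ≤ L := hL1'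
  have hP₁L : (Gp : Subgroup G) ⊓ normalizer (H : Set G) ≤
      L.map (normalizer (H : Set G)).subtype := by
    intro x hx
    exact ⟨⟨x, hx.2⟩, hL1 (Subgroup.mem_subgroupOf.mpr hx), rfl⟩
  have hLN : L.map (normalizer (H : Set G)).subtype ≤ normalizer (H : Set G) :=
    Subgroup.map_subtype_le _
  have hLcard : Nat.card ↥(L.map (normalizer (H : Set G)).subtype) = Nat.card L :=
    Subgroup.card_map_of_injective (Subgroup.subtype_injective _)
  obtain ⟨y₀, hy₀L, hy₀C, k, hk⟩ := exists_qelt_of_dvd_relIndex q _ L hL3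
  have hyLG : (y₀ : G) ∈ L.map (normalizer (H : Set G)).subtype := ⟨y₀, hy₀L, rfl⟩
  have hyC : (y₀ : G) ∉ centralizer (H : Set G) := fun hc =>
    hy₀C (Subgroup.mem_subgroupOf.mpr hc)
  have hyk : (y₀ : G) ^ q ^ k = 1 := by
    have h2 := congrArg (fun z : normalizer (H : Set G) => (z : G)) hk
    simpa using h2
  -- `P₁` is a Sylow subgroup of `LG`
  have hPLidx : ¬ p ∣ (((Gp : Subgroup G) ⊓ normalizer (H : Set G)).subgroupOf
      (L.map (normalizer (H : Set G)).subtype)).index := by
    intro hdvd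
    apply hidx
    have h1 := Subgroup.relIndex_mul_relIndex ((Gp : Subgroup G) ⊓ normalizer (H : Set G))
      (L.map (normalizer (H : Set G)).subtype) (normalizer (H : Set G)) hP₁L hLN
    exact hdvd.trans (Dvd.intro _ h1)
  -- `LG` has no normal `p`-complement
  have hHLG : H ≤ L.map (normalizer (H : Set G)).subtype := hHP₁.trans hP₁L
  have hnpc : ¬ Cfsg.HasNormalPComplement p ↥(L.map (normalizer (H : Set G)).subtype) := by
    intro hn
    have hfc := (Cfsg.Agent.Lib.Helper54.hasNormalPComplement_iff_frobeniusCondition).mp hn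
    have hgN : (⟨(y₀ : G), hyLG⟩ : L.map (normalizer (H : Set G)).subtype) ∈
        normalizer ((H.subgroupOf (L.map (normalizer (H : Set G)).subtype) :
          Subgroup (L.map (normalizer (H : Set G)).subtype)) : Set _) := by
      rw [mem_normalizer_iff]
      intro h
      rw [Subgroup.mem_subgroupOf, Subgroup.mem_subgroupOf]
      exact (mem_normalizer_iff.mp y₀.2) (h : G)
    have hgo : (orderOf (⟨(y₀ : G), hyLG⟩ : L.map (normalizer (H : Set G)).subtype)).Coprime
        p := by
      have h1 : (⟨(y₀ : G), hyLG⟩ : L.map (normalizer (H : Set G)).subtype) ^ q ^ k = 1 :=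
        Subtype.ext (by simpa using hyk)
      have h2 := orderOf_dvd_of_pow_eq_one h1
      exact Nat.Coprime.coprime_dvd_left h2
        (Nat.Coprime.pow_left k ((Nat.coprime_primes hq hp).mpr (Ne.symm hpq)))
    have hgc := hfc _ (hHp.comap_subtype) _ hgN hgo
    apply hyC
    rw [mem_centralizer_iff] at hgc ⊢
    intro h hh
    have h1 := hgc ⟨h, hHLG hh⟩ (Subgroup.mem_subgroupOf.mpr hh)
    exact congrArg Subtype.val h1
  have hcase : p ≠ 2 ∨ ¬ Cfsg.Involves (Equiv.Perm (Fin 4))
      ↥(L.map (normalizer (H : Set G)).subtype) := by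
    by_cases hp2 : p = 2
    · right
      apply not_involves_S4
      intro h3
      rw [hLcard] at h3
      rcases hL2 3 Nat.prime_three h3 with h | h
      · omega
      · exact h23 (Or.inl ⟨hp2, h.symm⟩)
    · exact Or.inl hp2
  have hP₁p'' : IsPGroup p ↥(((Gp : Subgroup G) ⊓ normalizer (H : Set G)).subgroupOf
      (L.map (normalizer (H : Set G)).subtype)) := hP₁p.comap_subtype
  have hpow : ¬ Cfsg.Agent.Lib.Helper88.PowHyp p
      (((Gp : Subgroup G) ⊓ normalizer (H : Set G)).subgroupOf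
        (L.map (normalizer (H : Set G)).subtype)) := fun hyp =>
    hnpc (Cfsg.Agent.Lib.Helper88.char_pnilpotent p _ _ rfl hcase (hP₁p''.toSylow hPLidx) hyp)
  unfold Cfsg.Agent.Lib.Helper88.PowHyp at hpow
  push_neg at hpow
  obtain ⟨Q', hQ'T, hQ'1, hQ'c, g, hgN, hgC⟩ := hpow
  -- the characteristic subgroup `K` of `P₁`
  have hKP₁ : Q'.map (L.map (normalizer (H : Set G)).subtype).subtype ≤
      (Gp : Subgroup G) ⊓ normalizer (H : Set G) := by
    rintro _ ⟨x, hx, rfl⟩
    exact Subgroup.mem_subgroupOf.mp (hQ'T hx)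
  have hKc := char_map_subtype hP₁L Q' hQ'c
  have hNK := Cfsg.Agent.Lib.Helper88.normalizer_le_of_characteristic hKP₁ hKc
  -- a `q`-element acting nontrivially on `K`
  have hKq : QAct q (Q'.map (L.map (normalizer (H : Set G)).subtype).subtype) := by
    have hn0 : Nat.card ↥(L.map (normalizer (H : Set G)).subtype) ≠ 0 := Nat.card_pos.ne'
    have hm := Nat.ordProj_mul_ordCompl_eq_self
      (Nat.card ↥(L.map (normalizer (H : Set G)).subtype)) p
    have hmnd := Nat.not_dvd_ordCompl hp hn0
    have hm0 : Nat.card ↥(L.map (normalizer (H : Set G)).subtype) /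
        p ^ (Nat.card ↥(L.map (normalizer (H : Set G)).subtype)).factorization p ≠ 0 := by
      intro h0
      rw [h0, mul_zero] at hm
      exact hn0 hm.symm
    have hmq := Nat.eq_prime_pow_of_unique_prime_dvd hm0 (p := q) (by
      intro d hd hdm
      have h1 : d ∣ Nat.card ↥(L.map (normalizer (H : Set G)).subtype) := by
        rw [← hm]; exact Dvd.dvd.mul_left hdm _
      rw [hLcard] at h1
      rcases hL2 d hd h1 with h | h
      · exfalso; rw [h] at hdm; exact hmnd hdm
      · exact h)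
    refine ⟨((g ^ p ^ (Nat.card ↥(L.map (normalizer (H : Set G)).subtype)).factorization p :
      L.map (normalizer (H : Set G)).subtype) : G), ?_, ?_,
      (Nat.card ↥(L.map (normalizer (H : Set G)).subtype) /
        p ^ (Nat.card ↥(L.map (normalizer (H : Set G)).subtype)).factorization
          p).primeFactorsList.length, ?_⟩
    · exact Subgroup.le_normalizer_map (L.map (normalizer (H : Set G)).subtype).subtype
        ⟨_, Subgroup.pow_mem _ hgN _, rfl⟩
    · intro hc
      apply hgC ((Nat.card ↥(L.map (normalizer (H : Set G)).subtype)).factorization p)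
      rw [mem_centralizer_iff] at hc ⊢
      intro x hx
      apply Subtype.ext
      exact hc (x : G) ⟨x, hx, rfl⟩
    · have h1 : (g ^ p ^ (Nat.card ↥(L.map (normalizer (H : Set G)).subtype)).factorization p) ^
          (Nat.card ↥(L.map (normalizer (H : Set G)).subtype) /
            p ^ (Nat.card ↥(L.map (normalizer (H : Set G)).subtype)).factorization p) = 1 := by
        rw [← pow_mul, hm]
        exact pow_card_eq_one'
      rw [hmq] at h1
      have h2 := congrArg (fun z : L.map (normalizer (H : Set G)).subtype => (z : G)) h1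
      simpa using h2
  -- contradiction with the choice of `H`
  have hKG : Q'.map (L.map (normalizer (H : Set G)).subtype).subtype ≤ (Gp : Subgroup G) :=
    hKP₁.trans inf_le_left
  have hc := hmaxH _ hKG hKq
  obtain ⟨x, hxG, hxN, hxP⟩ := Cfsg.Agent.Lib.Helper57.HSub.exists_mem_normalizer_not_mem
    Gp.isPGroup' (inf_le_left : (Gp : Subgroup G) ⊓ normalizer (H : Set G) ≤ _) hP₁ne
  have hle : (Gp : Subgroup G) ⊓ normalizer (H : Set G) ≤ (Gp : Subgroup G) ⊓
      normalizer ((Q'.map (L.map (normalizer (H : Set G)).subtype).subtype : Subgroup G) :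
        Set G) :=
    le_inf inf_le_left (le_normalizer.trans hNK)
  have heq := Subgroup.eq_of_le_of_card_ge hle hc
  apply hxP
  rw [heq]
  exact ⟨hxG, hNK hxN⟩

/-- **Thompson's lemma** (the statement of S4411, with `QAct`). -/
theorem main {G : Type u} [Group G] [Finite G] (p q : ℕ) [Fact p.Prime] [Fact q.Prime]
    (hpq : p ≠ q) (h23 : ¬ ((p = 2 ∧ q = 3) ∨ (p = 3 ∧ q = 2)))
    (hsol : ∀ H : Subgroup G, IsPGroup p ↥H →
      Cfsg.IsPSolvable p (↥(normalizer (H : Set G)) ⧸
        (centralizer (H : Set G)).subgroupOf (normalizer (H : Set G))))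
    (H : Subgroup G) (hH : IsPGroup p ↥H)
    (hq : q ∣ ((centralizer (H : Set G)).subgroupOf (normalizer (H : Set G))).index)
    (Gp : Sylow p G) :
    ∃ K : Subgroup G, K ≤ (Gp : Subgroup G) ∧ (Gp : Subgroup G) ≤ normalizer (K : Set G) ∧
      q ∣ ((centralizer (K : Set G)).subgroupOf (normalizer (K : Set G))).index := by
  have hHq : QAct q H := qact_of_dvd q H hq
  obtain ⟨S, hHS⟩ := hH.exists_le_sylow
  obtain ⟨g, hg⟩ := MulAction.exists_smul_eq G S Gp
  have hH₁G : H.map (MulAut.conj g).toMonoidHom ≤ (Gp : Subgroup G) := by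
    intro x hx
    rw [mem_map_conj] at hx
    rw [← hg]
    exact (mem_smul_sylow S g x).mpr (hHS hx)
  have hH₁q : QAct q (H.map (MulAut.conj g).toMonoidHom) := qact_conj q H g hHq
  obtain ⟨K, ⟨hKG, hKq⟩, hmax⟩ := Set.exists_max_image
    {H' : Subgroup G | H' ≤ (Gp : Subgroup G) ∧ QAct q H'}
    (fun H' => Nat.card ↥((Gp : Subgroup G) ⊓ normalizer (H' : Set G))) (Set.toFinite _)
    ⟨_, hH₁G, hH₁q⟩
  refine ⟨K, hKG, ?_, dvd_of_qact q K hKq⟩
  exact main_aux p q hpq h23 hsol Gp K hKG hKq (fun H' h1 h2 => hmax H' ⟨h1, h2⟩)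

end Cfsg.Agent.Lib.Helper21.HPQ
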