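import Mathlib
import Cfsg.Agent.S1140

set_option autoImplicit false

namespace Cfsg.Agent.Lib.Helper21.QuadForm

theorem pair_indep {F : Type*} [Field F] [Fintype F] [CharP F 2]
    (s : Finset ((F ≃+* F) × (F ≃+* F))) (a : (F ≃+* F) × (F ≃+* F) → F)
    (h : ∀ x y : F, ∑ p ∈ s, a p * (p.1 x * p.2 y) = 0) : ∀ p ∈ s, a p = 0 := by
  classical
  haveI : Finite (F ≃+* F) := DFunLike.finite _
  letI : Fintype (F ≃+* F) := Fintype.ofFinite _
  have hLI := (Cfsg.Agent.S1140.result (F := F)).1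
  have h0 : ∀ g : (F ≃+* F) → F, ∑ σ, g σ • ((σ : F →+* F) : F → F) = 0 → ∀ σ, g σ = 0 :=
    Fintype.linearIndependent_iff.1 hLI
  have h' : ∀ x y : F, ∑ σ : F ≃+* F, ∑ τ : F ≃+* F,
      (if (σ, τ) ∈ s then a (σ, τ) else 0) * (σ x * τ y) = 0 := by
    intro x y
    rw [← Fintype.sum_prod_type (f := fun p : (F ≃+* F) × (F ≃+* F) =>
      (if p ∈ s then a p else 0) * (p.1 x * p.2 y))]
    have : ∑ p ∈ s, a p * (p.1 x * p.2 y) =
        ∑ p : (F ≃+* F) × (F ≃+* F), (if p ∈ s then a p else 0) * (p.1 x * p.2 y) := by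
      rw [← Finset.sum_filter_of_ne (s := Finset.univ) (p := fun p => p ∈ s)]
      · rw [Finset.filter_mem_eq_inter, Finset.univ_inter]
        apply Finset.sum_congr rfl
        intro p hp
        rw [if_pos hp]
      · intro p _ hp
        by_contra hps
        rw [if_neg hps, zero_mul] at hp
        exact hp rfl
    rw [← this]
    exact h x y
  have h1 : ∀ (y : F) (σ : F ≃+* F), ∑ τ : F ≃+* F,
      (if (σ, τ) ∈ s then a (σ, τ) else 0) * τ y = 0 := by
    intro y
    apply h0
    funext x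
    simp only [Finset.sum_apply, Pi.smul_apply, smul_eq_mul, Pi.zero_apply]
    have e : (∑ σ : F ≃+* F, (∑ τ : F ≃+* F,
        (if (σ, τ) ∈ s then a (σ, τ) else 0) * τ y) * ((σ : F →+* F) : F → F) x) =
        ∑ σ : F ≃+* F, ∑ τ : F ≃+* F,
          (if (σ, τ) ∈ s then a (σ, τ) else 0) * (σ x * τ y) := by
      apply Finset.sum_congr rfl
      intro σ _
      rw [Finset.sum_mul]
      apply Finset.sum_congr rfl
      intro τ _
      show _ * τ y * σ x = _ * (σ x * τ y)
      ring
    rw [e]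
    exact h' x y
  intro p hp
  have h2 : ∀ σ τ : F ≃+* F, (if (σ, τ) ∈ s then a (σ, τ) else 0) = 0 := by
    intro σ
    apply h0
    funext y
    simp only [Finset.sum_apply, Pi.smul_apply, smul_eq_mul, Pi.zero_apply]
    exact h1 y σ
  have := h2 p.1 p.2
  rw [if_pos hp] at this
  exact this

theorem quad_form {F : Type*} [Field F] [Fintype F] [CharP F 2] (Q : F → F)
    (hmul : ∀ x y, Q (x*y) = Q x * Q y)
    (B : F → F → F) (hB : ∀ x y, Q (x + y) = Q x + Q y + B x y)
    (hBl : ∀ x x' y, B (x + x') y = B x y + B x' y)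
    (hBr : ∀ x y y', B x (y + y') = B x y + B x y')
    (hB0 : ∃ x y, B x y ≠ 0) :
    ∃ σ τ : F ≃+* F, σ ≠ τ ∧ ∀ t, Q t = σ t * τ t := by
  classical
  let Bb : F →+ F →+ F := AddMonoidHom.mk' (fun x => AddMonoidHom.mk' (fun y => B x y) (hBr x))
    (by intro x x'; ext y; exact hBl x x' y)
  obtain ⟨s, c, hc⟩ := (Cfsg.Agent.S1140.result (F := F)).2.2 Bb
  have hc' : ∀ x y, B x y = ∑ p ∈ s, c p * (p.1 x * p.2 y) := hc
  have hBQ : ∀ x y, B x y = Q (x + y) - Q x - Q y := by
    intro x y; rw [hB]; ring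
  have hBt : ∀ t x y, B (t*x) (t*y) = Q t * B x y := by
    intro t x y
    rw [hBQ, hBQ, ← mul_add, hmul, hmul, hmul]; ring
  have key : ∀ t : F, ∀ p ∈ s, c p * (p.1 t * p.2 t) - c p * Q t = 0 := by
    intro t
    apply pair_indep s (fun p => c p * (p.1 t * p.2 t) - c p * Q t)
    intro x y
    have e1 := hBt t x y
    rw [hc', hc', Finset.mul_sum] at e1
    rw [← sub_eq_zero, ← Finset.sum_sub_distrib] at e1
    rw [← e1]
    apply Finset.sum_congr rfl
    intro p _
    rw [map_mul, map_mul]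
    ring
  obtain ⟨p₀, hp₀, hcp₀⟩ : ∃ p ∈ s, c p ≠ 0 := by
    by_contra hcon
    push Not at hcon
    obtain ⟨x, y, hxy⟩ := hB0
    apply hxy
    rw [hc']
    apply Finset.sum_eq_zero
    intro p hp
    rw [hcon p hp, zero_mul]
  have hQ : ∀ t, Q t = p₀.1 t * p₀.2 t := by
    intro t
    have := key t p₀ hp₀
    rw [← mul_sub] at this
    rcases mul_eq_zero.mp this with h | h
    · exact absurd h hcp₀
    · exact (sub_eq_zero.mp h).symm
  refine ⟨p₀.1, p₀.2, ?_, hQ⟩
  intro heq
  obtain ⟨x, y, hxy⟩ := hB0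
  apply hxy
  rw [hBQ, hQ, hQ, hQ, ← heq, ← map_mul, ← map_mul, ← map_mul, CharTwo.add_mul_self, map_add]
  ring

theorem mem_fixed_zpowers {F : Type*} [Field F] (ψ : RingAut F) (x : F) :
    x ∈ FixedPoints.subfield (Subgroup.zpowers ψ) F ↔ ψ x = x := by
  constructor
  · intro hx
    exact hx ⟨ψ, Subgroup.mem_zpowers ψ⟩
  · intro hx g
    have hle : Subgroup.zpowers ψ ≤ MulAction.stabilizer (RingAut F) x := by
      rw [Subgroup.zpowers_le]
      exact hx
    exact hle g.2

theorem odd_order {F : Type*} [Field F] [Fintype F] (φ : F ≃+* F)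
    (hinj : Function.Injective (fun x : F => x * φ x)) : Odd (orderOf φ) := by
  classical
  by_contra hodd
  rw [Nat.not_odd_iff_even] at hodd
  haveI : Finite (RingAut F) := (DFunLike.finite (F ≃+* F) : Finite (F ≃+* F))
  have hex : ∃ x : F, φ (φ x) = x ∧ φ x ≠ x := by
    by_contra hne
    push Not at hne
    have hsub : FixedPoints.subfield (Subgroup.zpowers (φ : RingAut F)) F =
        FixedPoints.subfield (Subgroup.zpowers ((φ : RingAut F) * φ)) F := by
      ext x
      rw [mem_fixed_zpowers, mem_fixed_zpowers]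
      constructor
      · intro hx
        show φ (φ x) = x
        rw [hx, hx]
      · intro hx
        exact hne x hx
    letI : Fintype (Subgroup.zpowers (φ : RingAut F)) := Fintype.ofFinite _
    letI : Fintype (Subgroup.zpowers ((φ : RingAut F) * φ)) := Fintype.ofFinite _
    have e1 := FixedPoints.finrank_eq_card (Subgroup.zpowers (φ : RingAut F)) F
    have e2 := FixedPoints.finrank_eq_card (Subgroup.zpowers ((φ : RingAut F) * φ)) F
    have e3 : Module.finrank (FixedPoints.subfield (Subgroup.zpowers (φ : RingAut F)) F) F =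
        Module.finrank (FixedPoints.subfield (Subgroup.zpowers ((φ : RingAut F) * φ)) F) F :=
      congrArg (fun S : Subfield F => Module.finrank S F) hsub
    rw [e1, e2, ← Nat.card_eq_fintype_card, ← Nat.card_eq_fintype_card, Nat.card_zpowers,
      Nat.card_zpowers, ← pow_two, orderOf_pow' _ (by norm_num : (2:ℕ) ≠ 0)] at e3
    have hpos : 0 < orderOf (φ : RingAut F) := orderOf_pos _
    obtain ⟨r, hr⟩ := hodd
    have hr' : orderOf (φ : RingAut F) = r + r := hr
    rw [hr'] at e3 hpos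
    have hg : Nat.gcd (r + r) 2 = 2 := by
      have : r + r = 2 * r := by ring
      rw [this]
      exact Nat.gcd_mul_right_left 2 r ▸ (by simp)
    rw [hg] at e3
    omega
  obtain ⟨x, hx2, hx1⟩ := hex
  have := hinj (a₁ := x) (a₂ := φ x) (by show x * φ x = φ x * φ (φ x); rw [hx2, mul_comm])
  exact hx1 this.symm

end Cfsg.Agent.Lib.Helper21.QuadForm
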