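import Mathlib

set_option autoImplicit false

namespace Cfsg.Agent.Lib.Helper21.RegField

universe u v

variable {M : Type u} [CommGroup M] {𝒢 : Type v} [Group 𝒢]

/-- a commuting regular action by automorphisms on an elementary abelian 2-group -/
structure RegAct (act : 𝒢 → M → M) : Prop where
  act_mul : ∀ g h x, act (g*h) x = act g (act h x)
  act_one : ∀ x, act 1 x = x
  act_hom : ∀ g x y, act g (x*y) = act g x * act g y
  comm : ∀ g h x, act g (act h x) = act h (act g x)
  reg : ∀ x y : M, x ≠ 1 → y ≠ 1 → ∃! g, act g x = y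
  exp : ∀ x : M, x*x = 1

namespace RegAct

variable {act : 𝒢 → M → M} (h : RegAct act)
include h

theorem act_id (g : 𝒢) : act g 1 = 1 := by
  have := h.act_hom g 1 1
  rw [mul_one] at this
  exact (mul_eq_left.mp this.symm)

theorem act_inv_cancel (g : 𝒢) (x : M) : act g⁻¹ (act g x) = x := by
  rw [← h.act_mul, inv_mul_cancel, h.act_one]

theorem act_ne (g : 𝒢) {x : M} (hx : x ≠ 1) : act g x ≠ 1 := by
  intro h1
  apply hx
  have := h.act_inv_cancel g x
  rw [h1, h.act_id] at this
  exact this.symm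

end RegAct

/-- the additive endomorphism given by `act g` -/
def actEnd {act : 𝒢 → M → M} (h : RegAct act) (g : 𝒢) : AddMonoid.End (Additive M) :=
  AddMonoidHom.mk' (fun x => Additive.ofMul (act g (Additive.toMul x))) (by
    intro a b
    show Additive.ofMul (act g (Additive.toMul a * Additive.toMul b)) = _
    rw [h.act_hom]; rfl)

theorem actEnd_apply {act : 𝒢 → M → M} (h : RegAct act) (g : 𝒢) (x : Additive M) :
    actEnd h g x = Additive.ofMul (act g (Additive.toMul x)) := rfl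

theorem actEnd_add {act : 𝒢 → M → M} (h : RegAct act) (x₀ : M) (hx₀ : x₀ ≠ 1) (g g' : 𝒢) :
    actEnd h g + actEnd h g' = 0 ∨ ∃ c, actEnd h g + actEnd h g' = actEnd h c := by
  by_cases hy : act g x₀ * act g' x₀ = 1
  · left
    ext x
    show Additive.ofMul (act g (Additive.toMul x) * act g' (Additive.toMul x)) = 0
    by_cases hx : Additive.toMul x = 1
    · rw [hx, h.act_id, h.act_id, mul_one]; rfl
    · obtain ⟨d, hd, -⟩ := h.reg x₀ _ hx₀ hx
      rw [← hd, h.comm g d, h.comm g' d, ← h.act_hom, hy, h.act_id]; rfl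
  · right
    obtain ⟨c, hc, -⟩ := h.reg x₀ _ hx₀ hy
    refine ⟨c, ?_⟩
    ext x
    show Additive.ofMul (act g (Additive.toMul x) * act g' (Additive.toMul x)) =
      Additive.ofMul (act c (Additive.toMul x))
    by_cases hx : Additive.toMul x = 1
    · rw [hx, h.act_id, h.act_id, h.act_id, mul_one]
    · obtain ⟨d, hd, -⟩ := h.reg x₀ _ hx₀ hx
      rw [← hd, h.comm g d, h.comm g' d, ← h.act_hom, ← hc, h.comm c d]

/-- the subring `{0} ∪ {act g}` of the endomorphism ring -/
def regRing {act : 𝒢 → M → M} (h : RegAct act) (x₀ : M) (hx₀ : x₀ ≠ 1) :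
    Subring (AddMonoid.End (Additive M)) where
  carrier := {f | f = 0 ∨ ∃ g, f = actEnd h g}
  zero_mem' := Or.inl rfl
  one_mem' := Or.inr ⟨1, by
    ext x
    show x = Additive.ofMul (act 1 (Additive.toMul x))
    rw [h.act_one]; rfl⟩
  mul_mem' := by
    rintro a b (rfl | ⟨g, rfl⟩) (rfl | ⟨g', rfl⟩)
    · left; rw [zero_mul]
    · left; rw [zero_mul]
    · left; rw [mul_zero]
    · right
      refine ⟨g*g', ?_⟩
      ext x
      show Additive.ofMul (act g (act g' (Additive.toMul x))) = Additive.ofMul (act (g*g') (Additive.toMul x))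
      rw [h.act_mul]
  add_mem' := by
    rintro a b (rfl | ⟨g, rfl⟩) (rfl | ⟨g', rfl⟩)
    · left; rw [zero_add]
    · right; exact ⟨g', by rw [zero_add]⟩
    · right; exact ⟨g, by rw [add_zero]⟩
    · rcases actEnd_add h x₀ hx₀ g g' with h0 | ⟨c, hc⟩
      · left; exact h0
      · right; exact ⟨c, hc⟩
  neg_mem' := by
    intro a ha
    have : -a = a := by
      apply neg_eq_of_add_eq_zero_left
      ext x
      show a x + a x = 0
      have := h.exp (Additive.toMul (a x))
      exact congrArg Additive.ofMul this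
    rw [this]; exact ha

theorem actEnd_ne_zero {act : 𝒢 → M → M} (h : RegAct act) (x₀ : M) (hx₀ : x₀ ≠ 1) (g : 𝒢) :
    actEnd h g ≠ 0 := by
  intro h0
  have := congrArg (fun f : AddMonoid.End (Additive M) => Additive.toMul (f (Additive.ofMul x₀))) h0
  exact h.act_ne g hx₀ this

theorem regfield {act : 𝒢 → M → M} [Finite M] (h : RegAct act) (x₀ : M) (hx₀ : x₀ ≠ 1) :
    ∃ (R : Type u) (_ : Field R) (_ : Fintype R) (ev : R → M) (em : 𝒢 → R),
      Function.Bijective ev ∧ (∀ r s, ev (r + s) = ev r * ev s) ∧ ev 1 = x₀ ∧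
      (∀ g, em g ≠ 0) ∧ (∀ g r, ev (em g * r) = act g (ev r)) ∧ (∀ r, r ≠ 0 → ∃ g, em g = r) := by
  classical
  have hmulEnd : ∀ g g' : 𝒢, actEnd h g * actEnd h g' = actEnd h (g*g') := by
    intro g g'
    ext x
    show Additive.ofMul (act g (act g' (Additive.toMul x))) = Additive.ofMul (act (g*g') (Additive.toMul x))
    rw [h.act_mul]
  have hcommEnd : ∀ g g' : 𝒢, actEnd h g * actEnd h g' = actEnd h g' * actEnd h g := by
    intro g g'
    ext x
    show Additive.ofMul (act g (act g' (Additive.toMul x))) = Additive.ofMul (act g' (act g (Additive.toMul x)))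
    rw [h.comm]
  have hcomm : ∀ a b : regRing h x₀ hx₀, a * b = b * a := by
    rintro ⟨a, (rfl | ⟨g, rfl⟩)⟩ ⟨b, (rfl | ⟨g', rfl⟩)⟩
    · rfl
    · apply Subtype.ext; show (0 : AddMonoid.End (Additive M)) * _ = _ * 0; rw [zero_mul, mul_zero]
    · apply Subtype.ext; show _ * (0 : AddMonoid.End (Additive M)) = 0 * _; rw [zero_mul, mul_zero]
    · apply Subtype.ext; exact hcommEnd g g'
  letI instCR : CommRing (regRing h x₀ hx₀) :=
    { (inferInstance : Ring (regRing h x₀ hx₀)) with mul_comm := hcomm }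
  haveI : Nontrivial (regRing h x₀ hx₀) := by
    refine ⟨⟨⟨actEnd h 1, Or.inr ⟨1, rfl⟩⟩, 0, ?_⟩⟩
    intro h0
    exact actEnd_ne_zero h x₀ hx₀ 1 (congrArg Subtype.val h0)
  haveI : NoZeroDivisors (regRing h x₀ hx₀) := by
    constructor
    rintro ⟨a, (rfl | ⟨g, rfl⟩)⟩ ⟨b, (rfl | ⟨g', rfl⟩)⟩ hab
    · left; rfl
    · left; rfl
    · right; rfl
    · exfalso
      have h1 : actEnd h g * actEnd h g' = 0 := congrArg Subtype.val hab
      rw [hmulEnd] at h1
      exact actEnd_ne_zero h x₀ hx₀ _ h1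
  haveI : IsDomain (regRing h x₀ hx₀) := NoZeroDivisors.to_isDomain _
  haveI : Finite (Additive M) := inferInstanceAs (Finite M)
  haveI : Finite (AddMonoid.End (Additive M)) :=
    (DFunLike.finite (Additive M →+ Additive M) : Finite (Additive M →+ Additive M))
  haveI : Finite (regRing h x₀ hx₀) := Subtype.finite
  letI : Fintype (regRing h x₀ hx₀) := Fintype.ofFinite _
  -- the evaluation map
  have hev_inj : Function.Injective
      (fun r : regRing h x₀ hx₀ => Additive.toMul (r.1 (Additive.ofMul x₀))) := by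
    rintro ⟨a, (rfl | ⟨g, rfl⟩)⟩ ⟨b, (rfl | ⟨g', rfl⟩)⟩ hab
    · rfl
    · exfalso
      exact h.act_ne g' hx₀ hab.symm
    · exfalso
      exact h.act_ne g hx₀ hab
    · apply Subtype.ext
      have hab' : act g x₀ = act g' x₀ := hab
      obtain ⟨c, -, hc⟩ := h.reg x₀ (act g x₀) hx₀ (h.act_ne g hx₀)
      have e1 := hc g rfl
      have e2 := hc g' hab'.symm
      rw [e1, e2]
  have hev_surj : Function.Surjective
      (fun r : regRing h x₀ hx₀ => Additive.toMul (r.1 (Additive.ofMul x₀))) := by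
    intro y
    by_cases hy : y = 1
    · exact ⟨0, hy.symm⟩
    · obtain ⟨g, hg, -⟩ := h.reg x₀ y hx₀ hy
      exact ⟨⟨actEnd h g, Or.inr ⟨g, rfl⟩⟩, hg⟩
  refine ⟨regRing h x₀ hx₀, Fintype.fieldOfDomain _, inferInstance,
    fun r => Additive.toMul (r.1 (Additive.ofMul x₀)), fun g => ⟨actEnd h g, Or.inr ⟨g, rfl⟩⟩,
    ⟨hev_inj, hev_surj⟩, ?_, ?_, ?_, ?_, ?_⟩
  · intro r s; rfl
  · rfl
  · intro g h0
    exact actEnd_ne_zero h x₀ hx₀ g (congrArg Subtype.val h0)
  · intro g r; rfl
  · rintro ⟨a, (rfl | ⟨g, rfl⟩)⟩ hr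
    · exact absurd rfl hr
    · exact ⟨g, rfl⟩

end Cfsg.Agent.Lib.Helper21.RegField
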