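import Mathlib
import Cfsg.Prelude.Def_LieRecognition

set_option autoImplicit false

namespace Cfsg.Agent.Lib.Helper21.Suz2

universe u

variable {P : Type u} [Group P]

/-- commutator-like element: `x*y = y*x*cm x y` -/
def cm (x y : P) : P := (y*x)⁻¹*(x*y)

theorem mul_eq_cm (x y : P) : x*y = y*x*cm x y := by
  unfold cm; group

theorem cm_eq_one_iff (x y : P) : cm x y = 1 ↔ x*y = y*x := by
  unfold cm
  rw [inv_mul_eq_one]
  exact eq_comm

theorem cm_symm (x y : P) : cm y x = (cm x y)⁻¹ := by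
  unfold cm; group

theorem cm_self (x : P) : cm x x = 1 := by unfold cm; group

theorem cm_map (k : MulAut P) (x y : P) : k (cm x y) = cm (k x) (k y) := by
  unfold cm; simp [map_mul, map_inv]

theorem cm_mul_right (x y y' : P) (hc : cm x y ∈ Subgroup.center P) :
    cm x (y*y') = cm x y * cm x y' := by
  have hcomm := fun g => Subgroup.mem_center_iff.mp hc g
  have h1 := mul_eq_cm x y
  have h2 := mul_eq_cm x y'
  have h3 : x * (y*y') = y*y'*x*(cm x y * cm x y') := by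
    calc x*(y*y') = (x*y)*y' := (mul_assoc _ _ _).symm
      _ = (y*x*cm x y)*y' := by rw [← h1]
      _ = y*x*(cm x y*y') := by simp only [mul_assoc]
      _ = y*x*(y'*cm x y) := by rw [hcomm y']
      _ = y*(x*y')*cm x y := by simp only [mul_assoc]
      _ = y*(y'*x*cm x y')*cm x y := by rw [← h2]
      _ = y*y'*x*(cm x y' * cm x y) := by simp only [mul_assoc]
      _ = y*y'*x*(cm x y * cm x y') := by rw [hcomm (cm x y')]
  show (y*y'*x)⁻¹*(x*(y*y')) = _
  rw [h3, inv_mul_cancel_left]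

theorem cm_mul_left (x x' y : P) (hc : cm x y ∈ Subgroup.center P) :
    cm (x*x') y = cm x y * cm x' y := by
  have hcomm := fun g => Subgroup.mem_center_iff.mp hc g
  have h1 := mul_eq_cm x y
  have h2 := mul_eq_cm x' y
  have h3 : (x*x')*y = y*(x*x')*(cm x y * cm x' y) := by
    calc (x*x')*y = x*(x'*y) := mul_assoc _ _ _
      _ = x*(y*x'*cm x' y) := by rw [← h2]
      _ = (x*y)*(x'*cm x' y) := by simp only [mul_assoc]
      _ = (y*x*cm x y)*(x'*cm x' y) := by rw [← h1]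
      _ = y*x*(cm x y*x')*cm x' y := by simp only [mul_assoc]
      _ = y*x*(x'*cm x y)*cm x' y := by rw [hcomm x']
      _ = y*(x*x')*(cm x y * cm x' y) := by simp only [mul_assoc]
  show (y*(x*x'))⁻¹*((x*x')*y) = _
  rw [h3, inv_mul_cancel_left]

theorem aut_center (k : MulAut P) {z : P} (hz : z ∈ Subgroup.center P) :
    k z ∈ Subgroup.center P := by
  rw [Subgroup.mem_center_iff] at hz ⊢
  intro g
  have := congrArg (⇑k) (hz (k⁻¹ g))
  simpa [map_mul] using this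

theorem exists_pow_involution (h2 : IsPGroup 2 P) {x : P} (hx : x ≠ 1) :
    ∃ i : ℕ, x^i ≠ 1 ∧ x^i * x^i = 1 := by
  obtain ⟨n, hn⟩ := h2 x
  have hex : ∃ j, x^(2^j) = 1 := ⟨n, hn⟩
  classical
  obtain ⟨j, hj1, hjmin⟩ : ∃ j, x^(2^j) = 1 ∧ ∀ i, x^(2^i) = 1 → j ≤ i :=
    ⟨Nat.find hex, Nat.find_spec hex, fun i hi => Nat.find_min' hex hi⟩
  have hj0 : j ≠ 0 := by
    rintro rfl
    rw [pow_zero, pow_one] at hj1
    exact hx hj1
  obtain ⟨i, rfl⟩ : ∃ i, j = i + 1 := ⟨j - 1, by omega⟩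
  refine ⟨2^i, ?_, ?_⟩
  · intro h
    have := hjmin i h
    omega
  · rw [← pow_add, ← two_mul, ← pow_succ']
    exact hj1

theorem involution_mem_center [Finite P] (h2 : IsPGroup 2 P) (K : Subgroup (MulAut P))
    (hex : ∀ x y : P, x ≠ 1 → x*x = 1 → y ≠ 1 → y*y = 1 → ∃ k ∈ K, k x = y)
    {s : P} (hs : s*s = 1) : s ∈ Subgroup.center P := by
  by_cases hs1 : s = 1
  · rw [hs1]; exact one_mem _
  haveI : Nontrivial P := ⟨⟨s, 1, hs1⟩⟩
  haveI := h2.center_nontrivial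
  obtain ⟨z, hz⟩ := exists_ne (1 : Subgroup.center P)
  have hz1 : (z : P) ≠ 1 := fun h => hz (Subtype.ext h)
  obtain ⟨i, hi1, hi2⟩ := exists_pow_involution h2 hz1
  obtain ⟨k, hk, hks⟩ := hex _ _ hi1 hi2 hs1 hs
  rw [← hks]
  exact aut_center k (pow_mem z.2 i)

/-- the subgroup of elements of order at most 2, when these are central -/
def invSub (h : ∀ x : P, x*x = 1 → x ∈ Subgroup.center P) : Subgroup P where
  carrier := {x | x*x = 1}
  one_mem' := by simp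
  mul_mem' := by
    intro a b ha hb
    simp only [Set.mem_setOf_eq] at ha hb ⊢
    have hac := Subgroup.mem_center_iff.mp (h a ha)
    calc a*b*(a*b) = a*(b*a)*b := by group
      _ = a*(a*b)*b := by rw [hac b]
      _ = (a*a)*(b*b) := by group
      _ = 1 := by rw [ha, hb, one_mul]
  inv_mem' := by
    intro a ha
    simp only [Set.mem_setOf_eq] at ha ⊢
    rw [← mul_inv_rev, ha, inv_one]

theorem mem_invSub (h : ∀ x : P, x*x = 1 → x ∈ Subgroup.center P) (x : P) :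
    x ∈ invSub h ↔ x*x = 1 := Iff.rfl

/-- automorphisms of the quotient induced from `K` -/
def quotK (K : Subgroup (MulAut P)) (E : Subgroup P) [E.Normal] : Subgroup (MulAut (P ⧸ E)) where
  carrier := {φ | ∃ k ∈ K, ∀ x : P, φ (QuotientGroup.mk x) = QuotientGroup.mk (k x)}
  one_mem' := ⟨1, K.one_mem, fun x => rfl⟩
  mul_mem' := by
    rintro φ ψ ⟨k, hk, hφ⟩ ⟨l, hl, hψ⟩
    exact ⟨k*l, K.mul_mem hk hl, fun x => by rw [MulAut.mul_apply, hψ, hφ, MulAut.mul_apply]⟩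
  inv_mem' := by
    rintro φ ⟨k, hk, hφ⟩
    refine ⟨k⁻¹, K.inv_mem hk, fun x => ?_⟩
    have h1 : φ (QuotientGroup.mk (k⁻¹ x)) = QuotientGroup.mk x := by
      rw [hφ, MulAut.apply_inv_self]
    rw [← h1, MulAut.inv_apply_self]

theorem omega_central (K : Subgroup (MulAut P))
    (hex : ∀ x y : P, x ≠ 1 → x*x = 1 → y ≠ 1 → y*y = 1 → ∃ k ∈ K, k x = y)
    {z₀ : P} (hz₀ : z₀ ∈ Subgroup.center P) (m : ℕ) (hm : 1 ≤ m) (hz1 : z₀^(2^m) = 1)
    (hz2 : z₀^(2^(m-1)) ≠ 1) :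
    ∀ j ≤ m, ∀ y : P, y^(2^j) = 1 → y ∈ Subgroup.center P := by
  intro j
  induction j with
  | zero =>
    intro _ y hy
    rw [pow_zero, pow_one] at hy
    rw [hy]; exact one_mem _
  | succ j ih =>
    intro hj y hy
    have ih' := ih (by omega)
    by_cases he : y^(2^j) = 1
    · exact ih' y he
    have he2 : y^(2^j) * y^(2^j) = 1 := by
      rw [← pow_add, ← two_mul, ← pow_succ']; exact hy
    have ht2 : z₀^(2^(m-1)) * z₀^(2^(m-1)) = 1 := by
      rw [← pow_add, ← two_mul, ← pow_succ']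
      have : m - 1 + 1 = m := by omega
      rw [this]; exact hz1
    obtain ⟨k, hk, hke⟩ := hex _ _ hz2 ht2 he he2
    have hu : k (z₀^(2^(m-1-j))) ∈ Subgroup.center P := aut_center k (pow_mem hz₀ _)
    have hu2 : (k (z₀^(2^(m-1-j))))^(2^j) = y^(2^j) := by
      rw [← map_pow, ← pow_mul, ← pow_add]
      have : m - 1 - j + j = m - 1 := by omega
      rw [this]; exact hke
    have h3 : (y * (k (z₀^(2^(m-1-j))))⁻¹)^(2^j) = 1 := by
      have hcomm : Commute y (k (z₀^(2^(m-1-j))))⁻¹ :=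
        Subgroup.mem_center_iff.mp (inv_mem hu) y
      rw [hcomm.mul_pow, inv_pow, hu2, mul_inv_cancel]
    have h4 := ih' _ h3
    have : y = (y * (k (z₀^(2^(m-1-j))))⁻¹) * k (z₀^(2^(m-1-j))) := by group
    rw [this]
    exact mul_mem h4 hu

theorem exists_noncentral [Finite P] (h2 : IsPGroup 2 P)
    (hna : ∃ x : P, x ∉ Subgroup.center P) :
    ∃ x' : P, x' ∉ Subgroup.center P ∧ x'*x' ∈ Subgroup.center P ∧
      ∀ y, cm x' y ∈ Subgroup.center P := by
  obtain ⟨x₀, hx₀⟩ := hna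
  haveI : Nontrivial (P ⧸ Subgroup.center P) := by
    refine ⟨⟨QuotientGroup.mk x₀, 1, ?_⟩⟩
    rw [Ne, QuotientGroup.eq_one_iff]
    exact hx₀
  have h2q : IsPGroup 2 (P ⧸ Subgroup.center P) := h2.to_quotient _
  haveI := h2q.center_nontrivial
  obtain ⟨w, hw⟩ := exists_ne (1 : Subgroup.center (P ⧸ Subgroup.center P))
  obtain ⟨x, hx⟩ := QuotientGroup.mk_surjective (w : P ⧸ Subgroup.center P)
  have hx1 : x ∉ Subgroup.center P := by
    intro h
    apply hw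
    apply Subtype.ext
    rw [← hx]
    exact (QuotientGroup.eq_one_iff x).mpr h
  have hxc : ∀ i : ℕ, ∀ y, cm (x^i) y ∈ Subgroup.center P := by
    intro i y
    have hwc : (QuotientGroup.mk (x^i) : P ⧸ Subgroup.center P) ∈
        Subgroup.center (P ⧸ Subgroup.center P) := by
      rw [QuotientGroup.mk_pow, hx]
      exact pow_mem w.2 i
    have := Subgroup.mem_center_iff.mp hwc (QuotientGroup.mk y)
    rw [← QuotientGroup.mk_mul, ← QuotientGroup.mk_mul, QuotientGroup.eq] at this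
    exact this
  obtain ⟨n, hn⟩ := h2 x
  have hex : ∃ j, x^(2^j) ∈ Subgroup.center P := ⟨n, by rw [hn]; exact one_mem _⟩
  classical
  obtain ⟨j, hj1, hjmin⟩ : ∃ j, x^(2^j) ∈ Subgroup.center P ∧
      ∀ i, x^(2^i) ∈ Subgroup.center P → j ≤ i :=
    ⟨Nat.find hex, Nat.find_spec hex, fun i hi => Nat.find_min' hex hi⟩
  have hj0 : j ≠ 0 := by
    rintro rfl
    rw [pow_zero, pow_one] at hj1
    exact hx1 hj1
  obtain ⟨i, rfl⟩ : ∃ i, j = i + 1 := ⟨j - 1, by omega⟩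
  refine ⟨x^(2^i), ?_, ?_, hxc _⟩
  · intro h
    have := hjmin i h
    omega
  · rw [← pow_add, ← two_mul, ← pow_succ']
    exact hj1

theorem field_arg [Finite P] (K : Subgroup (MulAut P))
    (hKab : ∀ a ∈ K, ∀ b ∈ K, a * b = b * a)
    (hex : ∀ x y : P, x ≠ 1 → x*x = 1 → y ≠ 1 → y*y = 1 → ∃ k ∈ K, k x = y)
    (hfree : ∀ k ∈ K, ∀ x : P, x ≠ 1 → x*x = 1 → k x = x → k = 1)
    (hcentinv : ∀ x : P, x*x = 1 → x ∈ Subgroup.center P)
    (hcmE : ∀ x y : P, cm x y * cm x y = 1)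
    (m : ℕ) (hm : 2 ≤ m)
    (hZexp : ∀ z ∈ Subgroup.center P, z^(2^m) = 1)
    (hΩ : ∀ y : P, y^(2^m) = 1 → y ∈ Subgroup.center P) :
    ∀ x' y : P, cm x' y = 1 := by
  have hcmc : ∀ x y : P, cm x y ∈ Subgroup.center P := fun x y => hcentinv _ (hcmE x y)
  have hcen : ∀ {z : P}, z ∈ Subgroup.center P → ∀ g : P, g * z = z * g :=
    fun hz g => Subgroup.mem_center_iff.mp hz g
  have hsq : ∀ x y : P, (x*y)*(x*y) = (x*x)*(y*y)*cm y x := by
    intro x y
    have h1 := mul_eq_cm y x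
    calc x*y*(x*y) = x*(y*x)*y := by simp only [mul_assoc]
      _ = x*(x*y*cm y x)*y := by rw [← h1]
      _ = x*(x*y)*(cm y x*y) := by simp only [mul_assoc]
      _ = x*(x*y)*(y*cm y x) := by rw [hcen (hcmc y x) y]
      _ = (x*x)*(y*y)*cm y x := by simp only [mul_assoc]
  have hsqc : ∀ x : P, x*x ∈ Subgroup.center P := by
    intro x
    rw [Subgroup.mem_center_iff]
    intro g
    have h1 : cm (x*x) g = 1 := by
      rw [cm_mul_left x x g (hcmc x g)]
      exact hcmE x g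
    exact ((cm_eq_one_iff _ _).mp h1).symm
  have hth_mul : ∀ x y : P, (x*y)^(2^m) = x^(2^m) * y^(2^m) := by
    intro x y
    obtain ⟨d, rfl⟩ : ∃ d, m = d + 2 := ⟨m - 2, by omega⟩
    have e1 : (2:ℕ)^(d+2) = 2 * 2^(d+1) := by rw [pow_succ']
    have e2 : (2:ℕ)^(d+1) = 2 * 2^d := by rw [pow_succ']
    have hc1 : Commute (x*x) (y*y) := hcen (hsqc y) (x*x)
    have hc2 : Commute ((x*x)*(y*y)) (cm y x) := hcen (hcmc y x) _
    have h3 : (cm y x)^(2^(d+1)) = 1 := by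
      rw [e2, pow_mul, pow_two, hcmE, one_pow]
    calc (x*y)^(2^(d+2)) = ((x*y)*(x*y))^(2^(d+1)) := by rw [e1, pow_mul, pow_two]
      _ = ((x*x)*(y*y)*cm y x)^(2^(d+1)) := by rw [hsq x y]
      _ = (x*x)^(2^(d+1)) * (y*y)^(2^(d+1)) := by
          rw [hc2.mul_pow, hc1.mul_pow, h3, mul_one]
      _ = x^(2^(d+2)) * y^(2^(d+2)) := by
          rw [e1, pow_mul x, pow_mul y, pow_two, pow_two]
  have hth_mem : ∀ x : P, x^(2^m) * x^(2^m) = 1 := by
    intro x
    have := hZexp _ (hsqc x)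
    rw [← pow_two, ← pow_mul, mul_comm, pow_mul, pow_two]
    exact this
  have hth_K : ∀ (k : MulAut P) (x : P), (k x)^(2^m) = k (x^(2^m)) :=
    fun k x => (map_pow k x _).symm
  have hth_same : ∀ p p' : P, p^(2^m) = p'^(2^m) → p * p'⁻¹ ∈ Subgroup.center P := by
    intro p p' h
    apply hΩ
    rw [hth_mul, inv_pow, h, mul_inv_cancel]
  have hEinv : ∀ g : P, g*g = 1 → g⁻¹ = g := fun g hg => inv_eq_of_mul_eq_one_left hg
  have hcomm_e : ∀ g h : P, g*g = 1 → g*h = h*g :=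
    fun g h hg => (hcen (hcentinv g hg) h).symm
  have hKE : ∀ (k : MulAut P) (g : P), g*g = 1 → k g * k g = 1 := by
    intro k g hg; rw [← map_mul, hg, map_one]
  intro x'
  by_cases hx' : x' ∈ Subgroup.center P
  · intro y
    rw [cm_eq_one_iff]
    exact (hcen hx' y).symm
  have hγmul : ∀ y y' : P, cm x' (y*y') = cm x' y * cm x' y' :=
    fun y y' => cm_mul_right x' y y' (hcmc x' y)
  have hγc : ∀ z ∈ Subgroup.center P, cm x' z = 1 := by
    intro z hz
    rw [cm_eq_one_iff]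
    exact hcen hz x'
  have hγsame : ∀ p p' : P, p^(2^m) = p'^(2^m) → cm x' p = cm x' p' := by
    intro p p' h
    have h1 := hγc _ (hth_same p p' h)
    have h2 : cm x' p = cm x' ((p * p'⁻¹) * p') := by
      congr 1; group
    rw [h2, hγmul, h1, one_mul]
  obtain ⟨e₀, he₀def⟩ : ∃ e₀ : P, e₀ = x'^(2^m) := ⟨_, rfl⟩
  have he₀1 : e₀ ≠ 1 := by
    rw [he₀def]; intro h; exact hx' (hΩ x' h)
  have he₀2 : e₀ * e₀ = 1 := by rw [he₀def]; exact hth_mem x'
  have hθK : ∀ k : MulAut P, (k x')^(2^m) = k e₀ := by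
    intro k; rw [he₀def, map_pow]
  have hR1 : ∀ d : MulAut P, cm x' (d⁻¹ x') = d⁻¹ (cm x' (d x')) := by
    intro d
    rw [cm_map, MulAut.inv_apply_self, cm_symm, hEinv _ (hcmE _ _)]
  have hsum : ∀ a ∈ K, ∀ b ∈ K, a e₀ * b e₀ = e₀ → ∀ g : P, g*g = 1 → a g * b g = g := by
    intro a ha b hb hab g hg
    by_cases hg1 : g = 1
    · rw [hg1, map_one, map_one, one_mul]
    obtain ⟨c, hc, hcg⟩ := hex _ _ he₀1 he₀2 hg1 hg
    rw [← hcg]
    have h1 : a (c e₀) = c (a e₀) := by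
      have := hKab a ha c hc
      calc a (c e₀) = (a * c) e₀ := rfl
        _ = (c * a) e₀ := by rw [this]
        _ = c (a e₀) := rfl
    have h2 : b (c e₀) = c (b e₀) := by
      have := hKab b hb c hc
      calc b (c e₀) = (b * c) e₀ := rfl
        _ = (c * b) e₀ := by rw [this]
        _ = c (b e₀) := rfl
    rw [h1, h2, ← map_mul, hab]
  have hkey : ∀ a ∈ K, cm x' (a (a x')) = 1 := by
    intro a ha
    by_cases hae : a e₀ = e₀
    · have := hfree a ha e₀ he₀1 he₀2 hae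
      rw [this]
      exact cm_self x'
    have hae2 : a e₀ * a e₀ = 1 := hKE a e₀ he₀2
    have hne : a e₀ * e₀ ≠ 1 := by
      intro h
      apply hae
      have := eq_inv_of_mul_eq_one_left h
      rw [this, hEinv e₀ he₀2]
    have hsq' : (a e₀ * e₀) * (a e₀ * e₀) = 1 := by
      calc (a e₀ * e₀) * (a e₀ * e₀) = a e₀ * (e₀ * a e₀) * e₀ := by simp only [mul_assoc]
        _ = a e₀ * (a e₀ * e₀) * e₀ := by rw [hcomm_e e₀ (a e₀) he₀2]
        _ = (a e₀ * a e₀) * (e₀ * e₀) := by simp only [mul_assoc]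
        _ = 1 := by rw [hae2, he₀2, one_mul]
    obtain ⟨b, hb, hbe⟩ := hex _ _ he₀1 he₀2 hne hsq'
    have hab : a e₀ * b e₀ = e₀ := by
      rw [hbe, ← mul_assoc, hae2, one_mul]
    have hS := hsum a ha b hb hab
    obtain ⟨g, hgdef⟩ : ∃ g : P, g = cm x' (a x') := ⟨_, rfl⟩
    have hg2 : g * g = 1 := by rw [hgdef]; exact hcmE _ _
    have h1 : cm x' (b x') = g := by
      have : (b x')^(2^m) = (a x' * x')^(2^m) := by
        rw [hθK, hth_mul, hθK, ← he₀def, hbe]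
      rw [hγsame _ _ this, hγmul, cm_self, mul_one, hgdef]
    have h2 : ((a*b)⁻¹ x')^(2^m) = (a⁻¹ x' * b⁻¹ x')^(2^m) := by
      rw [hθK, hth_mul, hθK, hθK]
      have hg' : ((a*b)⁻¹ e₀) * ((a*b)⁻¹ e₀) = 1 := hKE _ _ he₀2
      have := hS _ hg'
      have ha' : a ((a*b)⁻¹ e₀) = b⁻¹ e₀ := by
        have : a * (a*b)⁻¹ = b⁻¹ := by
          rw [hKab a ha b hb]; group
        calc a ((a*b)⁻¹ e₀) = (a * (a*b)⁻¹) e₀ := rfl
          _ = b⁻¹ e₀ := by rw [this]
      have hb' : b ((a*b)⁻¹ e₀) = a⁻¹ e₀ := by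
        have : b * (a*b)⁻¹ = a⁻¹ := by group
        calc b ((a*b)⁻¹ e₀) = (b * (a*b)⁻¹) e₀ := rfl
          _ = a⁻¹ e₀ := by rw [this]
      rw [ha', hb'] at this
      rw [← this]
      exact hcomm_e _ _ (hKE _ _ he₀2)
    have h3 : cm x' ((a*b)⁻¹ x') = cm x' (a⁻¹ x') * cm x' (b⁻¹ x') := by
      rw [hγsame _ _ h2, hγmul]
    rw [hR1 (a*b), hR1 a, hR1 b, h1, ← hgdef] at h3
    have h4 : cm x' ((a*b) x') = g := by
      have := congrArg (⇑(a*b)) h3
      rw [MulAut.apply_inv_self, map_mul] at this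
      have e1 : (a*b) (a⁻¹ g) = b g := by
        have : a * b * a⁻¹ = b := by rw [hKab a ha b hb]; group
        calc (a*b) (a⁻¹ g) = (a*b*a⁻¹) g := rfl
          _ = b g := by rw [this]
      have e2 : (a*b) (b⁻¹ g) = a g := by
        have : a * b * b⁻¹ = a := by group
        calc (a*b) (b⁻¹ g) = (a*b*b⁻¹) g := rfl
          _ = a g := by rw [this]
      rw [e1, e2] at this
      rw [this, hcomm_e _ _ (hKE b g hg2)]
      exact hS g hg2
    have h5 : ((a*b) x')^(2^m) = (a x' * a (a x'))^(2^m) := by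
      rw [hθK, hth_mul, hθK, hth_K a (a x'), hθK]
      have := hS (a e₀) hae2
      have hba : b (a e₀) = (a*b) e₀ := by
        calc b (a e₀) = (b*a) e₀ := rfl
          _ = (a*b) e₀ := by rw [hKab a ha b hb]
      rw [hba] at this
      have h6 : a (a e₀) * a (a e₀) = 1 := hKE a _ hae2
      calc (a*b) e₀ = (a (a e₀) * a (a e₀)) * (a*b) e₀ := by rw [h6, one_mul]
        _ = a (a e₀) * (a (a e₀) * (a*b) e₀) := mul_assoc _ _ _
        _ = a (a e₀) * a e₀ := by rw [this]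
        _ = a e₀ * a (a e₀) := hcomm_e _ _ h6
    have h7 := hγsame _ _ h5
    rw [h4, hγmul, ← hgdef] at h7
    have h8 : g * cm x' (a (a x')) = g * 1 := by rw [mul_one]; exact h7.symm
    exact mul_left_cancel h8
  have hnoinv : ∀ c ∈ K, c * c = 1 → c = 1 := by
    intro c hc hcc
    by_contra hc1
    have hce : c e₀ ≠ e₀ := fun h => hc1 (hfree c hc e₀ he₀1 he₀2 h)
    have hce2 : c e₀ * c e₀ = 1 := hKE c e₀ he₀2
    have hne : e₀ * c e₀ ≠ 1 := by
      intro h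
      apply hce
      have := eq_inv_of_mul_eq_one_right h
      rw [this, hEinv e₀ he₀2]
    have hsq' : (e₀ * c e₀) * (e₀ * c e₀) = 1 := by
      calc (e₀ * c e₀) * (e₀ * c e₀) = e₀ * (c e₀ * e₀) * c e₀ := by simp only [mul_assoc]
        _ = e₀ * (e₀ * c e₀) * c e₀ := by rw [hcomm_e (c e₀) e₀ hce2]
        _ = (e₀ * e₀) * (c e₀ * c e₀) := by simp only [mul_assoc]
        _ = 1 := by rw [he₀2, hce2, one_mul]
    have hfix : c (e₀ * c e₀) = e₀ * c e₀ := by
      rw [map_mul]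
      have : c (c e₀) = e₀ := by
        calc c (c e₀) = (c*c) e₀ := rfl
          _ = e₀ := by rw [hcc]; rfl
      rw [this]
      exact hcomm_e _ _ hce2
    exact hc1 (hfree c hc _ hne hsq' hfix)
  haveI : Finite (MulAut P) :=
    Finite.of_injective (fun k : MulAut P => (k : P → P)) DFunLike.coe_injective
  have hKsq : ∀ d ∈ K, ∃ a ∈ K, a * a = d := by
    have hinj : Function.Injective (fun k : K => (⟨(k : MulAut P) * k, K.mul_mem k.2 k.2⟩ : K)) := by
      rintro ⟨k, hk⟩ ⟨l, hl⟩ hkl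
      have hkl' : k * k = l * l := congrArg Subtype.val hkl
      have h1 : (k * l⁻¹) * (k * l⁻¹) = 1 := by
        have hc := hKab l⁻¹ (K.inv_mem hl) k hk
        calc (k * l⁻¹) * (k * l⁻¹) = k * (l⁻¹ * k) * l⁻¹ := by simp only [mul_assoc]
          _ = k * (k * l⁻¹) * l⁻¹ := by rw [hc]
          _ = (k * k) * (l⁻¹ * l⁻¹) := by simp only [mul_assoc]
          _ = 1 := by rw [hkl']; group
      have h2 := hnoinv _ (K.mul_mem hk (K.inv_mem hl)) h1
      exact Subtype.ext (mul_inv_eq_one.mp h2)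
    have hsurj := Finite.injective_iff_surjective.mp hinj
    intro d hd
    obtain ⟨a, ha⟩ := hsurj ⟨d, hd⟩
    exact ⟨a, a.2, congrArg Subtype.val ha⟩
  intro y
  by_cases hy : y ∈ Subgroup.center P
  · exact hγc y hy
  have hy1 : y^(2^m) ≠ 1 := fun h => hy (hΩ y h)
  obtain ⟨d, hd, hde⟩ := hex _ _ he₀1 he₀2 hy1 (hth_mem y)
  obtain ⟨a, ha, haa⟩ := hKsq d hd
  have : y^(2^m) = (a (a x'))^(2^m) := by
    rw [hth_K a (a x'), hθK, ← hde, ← haa]; rfl
  rw [hγsame _ _ this]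
  exact hkey a ha

theorem main_aux : ∀ (n : ℕ) (P : Type u) [Group P] [Finite P], Nat.card P = n → IsPGroup 2 P →
    ∀ K : Subgroup (MulAut P), (∀ a ∈ K, ∀ b ∈ K, a * b = b * a) →
    (∀ x y : P, x ≠ 1 → x*x = 1 → y ≠ 1 → y*y = 1 → ∃ k ∈ K, k x = y) →
    (∀ k ∈ K, ∀ x : P, x ≠ 1 → x*x = 1 → k x = x → k = 1) →
    (∃ z ∈ Subgroup.center P, z*z ≠ 1) → ∀ x y : P, x*y = y*x := by
  intro n
  induction n using Nat.strong_induction_on with
  | _ n ih =>
  intro P _ _ hcard h2 K hKab hex hfree ⟨z₁, hz₁c, hz₁⟩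
  by_contra hna
  push Not at hna
  obtain ⟨xa, ya, hxy⟩ := hna
  have hcen : ∀ {z : P}, z ∈ Subgroup.center P → ∀ g : P, g * z = z * g :=
    fun hz g => Subgroup.mem_center_iff.mp hz g
  have hcentinv : ∀ x : P, x*x = 1 → x ∈ Subgroup.center P :=
    fun x hx => involution_mem_center h2 K hex hx
  have hexN : ∃ N, ∀ z ∈ Subgroup.center P, z^(2^N) = 1 := by
    obtain ⟨N, hN⟩ := IsPGroup.iff_card.mp h2
    exact ⟨N, fun z _ => by rw [← hN]; exact pow_card_eq_one'⟩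
  classical
  obtain ⟨m, hZexp, hmmin⟩ : ∃ m, (∀ z ∈ Subgroup.center P, z^(2^m) = 1) ∧
      ∀ i, (∀ z ∈ Subgroup.center P, z^(2^i) = 1) → m ≤ i :=
    ⟨Nat.find hexN, Nat.find_spec hexN, fun i hi => Nat.find_min' hexN hi⟩
  have hm2 : 2 ≤ m := by
    by_contra hlt
    have h1 := hZexp z₁ hz₁c
    have : m = 0 ∨ m = 1 := by omega
    rcases this with rfl | rfl
    · apply hz₁; rw [pow_zero, pow_one] at h1; rw [h1, one_mul]
    · apply hz₁; rw [pow_one, pow_two] at h1; exact h1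
  obtain ⟨z₀, hz₀c, hz₀⟩ : ∃ z₀ ∈ Subgroup.center P, z₀^(2^(m-1)) ≠ 1 := by
    by_contra hcon
    push Not at hcon
    have := hmmin (m-1) hcon
    omega
  have hΩ := omega_central K hex hz₀c m (by omega) (hZexp z₀ hz₀c) hz₀
  obtain ⟨x', hx'nc, hx'sq, hx'c⟩ := exists_noncentral h2 ⟨xa, fun h => hxy (hcen h ya).symm⟩
  have hx'E : ∀ y, cm x' y * cm x' y = 1 := by
    intro y
    rw [← cm_mul_left x' x' y (hx'c y)]
    exact (cm_eq_one_iff _ _).mpr (hcen hx'sq y).symm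
  obtain ⟨E, hEdef⟩ : ∃ E : Subgroup P, E = invSub hcentinv := ⟨_, rfl⟩
  have hEmem : ∀ x : P, x ∈ E ↔ x*x = 1 := fun x => by rw [hEdef]; exact Iff.rfl
  have hEle : E ≤ Subgroup.center P := fun x hx => hcentinv x ((hEmem x).mp hx)
  haveI hEn : E.Normal := by
    constructor
    intro e he g
    have := hcen (hEle he) g
    rw [this, mul_inv_cancel_right]
    exact he
  have hKE : ∀ (k : MulAut P) (x : P), x ∈ E → k x ∈ E := by
    intro k x hx
    rw [hEmem] at hx ⊢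
    rw [← map_mul, hx, map_one]
  have hKmap : ∀ k : MulAut P, E.map (k : P →* P) = E := by
    intro k
    apply le_antisymm
    · rintro _ ⟨x, hx, rfl⟩
      exact hKE k x hx
    · intro x hx
      refine ⟨k⁻¹ x, hKE k⁻¹ x hx, ?_⟩
      exact MulAut.apply_inv_self _ k x
  have hind : ∀ k ∈ K, ∃ φ ∈ quotK K E,
      ∀ x : P, φ (QuotientGroup.mk x) = QuotientGroup.mk (k x) := by
    intro k hk
    exact ⟨QuotientGroup.congr E E k (hKmap k), ⟨k, hk, fun x => rfl⟩, fun x => rfl⟩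
  have hEnt : 1 < Nat.card E := by
    rw [Finite.one_lt_card_iff_nontrivial]
    refine ⟨⟨⟨z₀^(2^(m-1)), ?_⟩, 1, ?_⟩⟩
    · rw [hEmem, ← pow_add, ← two_mul, ← pow_succ']
      have : m - 1 + 1 = m := by omega
      rw [this]; exact hZexp z₀ hz₀c
    · intro h
      exact hz₀ (congrArg Subtype.val h)
  have hcardQ : Nat.card (P ⧸ E) < n := by
    have h1 := Subgroup.card_eq_card_quotient_mul_card_subgroup E
    have h3 : 0 < Nat.card (P ⧸ E) := Nat.card_pos
    rw [← hcard, h1]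
    nlinarith
  have hKbab : ∀ a ∈ quotK K E, ∀ b ∈ quotK K E, a * b = b * a := by
    rintro a ⟨k, hk, ha⟩ b ⟨l, hl, hb⟩
    apply MulEquiv.ext
    intro q
    obtain ⟨x, rfl⟩ := QuotientGroup.mk_surjective q
    rw [MulAut.mul_apply, MulAut.mul_apply, hb, ha, ha, hb]
    have : k (l x) = l (k x) := by
      calc k (l x) = (k*l) x := rfl
        _ = (l*k) x := by rw [hKab k hk l hl]
        _ = l (k x) := rfl
    rw [this]
  have hpow4 : ∀ t : P, t*t ∈ E → t^(2^2) = 1 := by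
    intro t ht
    have := (hEmem _).mp ht
    have e4 : (2:ℕ)^2 = 2 + 2 := by norm_num
    rw [e4, pow_add, pow_two]
    exact this
  have hexQ : ∀ p q : P ⧸ E, p ≠ 1 → p*p = 1 → q ≠ 1 → q*q = 1 →
      ∃ φ ∈ quotK K E, φ p = q := by
    intro p q hp1 hp2 hq1 hq2
    obtain ⟨x, rfl⟩ := QuotientGroup.mk_surjective p
    obtain ⟨y, rfl⟩ := QuotientGroup.mk_surjective q
    have hx1 : x ∉ E := fun h => hp1 ((QuotientGroup.eq_one_iff x).mpr h)
    have hy1 : y ∉ E := fun h => hq1 ((QuotientGroup.eq_one_iff y).mpr h)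
    have hx2 : x*x ∈ E := by
      rw [← QuotientGroup.mk_mul] at hp2
      exact (QuotientGroup.eq_one_iff _).mp hp2
    have hy2 : y*y ∈ E := by
      rw [← QuotientGroup.mk_mul] at hq2
      exact (QuotientGroup.eq_one_iff _).mp hq2
    have hxc : x ∈ Subgroup.center P := hΩ 2 hm2 x (hpow4 x hx2)
    have hyc : y ∈ Subgroup.center P := hΩ 2 hm2 y (hpow4 y hy2)
    have hxx1 : x*x ≠ 1 := fun h => hx1 ((hEmem x).mpr h)
    have hyy1 : y*y ≠ 1 := fun h => hy1 ((hEmem y).mpr h)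
    obtain ⟨k, hk, hkxy⟩ := hex (x*x) (y*y) hxx1 ((hEmem _).mp hx2) hyy1 ((hEmem _).mp hy2)
    obtain ⟨φ, hφ, hφk⟩ := hind k hk
    refine ⟨φ, hφ, ?_⟩
    rw [hφk, QuotientGroup.eq, hEmem]
    have hyc' := hcen hyc
    calc ((k x)⁻¹ * y) * ((k x)⁻¹ * y) = (k x)⁻¹ * (y * (k x)⁻¹) * y := by
          simp only [mul_assoc]
      _ = (k x)⁻¹ * ((k x)⁻¹ * y) * y := by rw [hyc' (k x)⁻¹]
      _ = (k x * k x)⁻¹ * (y * y) := by group
      _ = 1 := by rw [← map_mul, hkxy, inv_mul_cancel]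
  have hfreeQ : ∀ φ ∈ quotK K E, ∀ p : P ⧸ E, p ≠ 1 → p*p = 1 → φ p = p → φ = 1 := by
    rintro φ ⟨k, hk, hφ⟩ p hp1 hp2 hfix
    obtain ⟨x, rfl⟩ := QuotientGroup.mk_surjective p
    have hx1 : x ∉ E := fun h => hp1 ((QuotientGroup.eq_one_iff x).mpr h)
    have hx2 : x*x ∈ E := by
      rw [← QuotientGroup.mk_mul] at hp2
      exact (QuotientGroup.eq_one_iff _).mp hp2
    rw [hφ, QuotientGroup.eq, hEmem] at hfix
    have hxc : x ∈ Subgroup.center P := hΩ 2 hm2 x (hpow4 x hx2)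
    have hkfix : k (x*x) = x*x := by
      have hxc' := hcen hxc
      have h1 : (k x * k x)⁻¹ * (x * x) = 1 := by
        calc (k x * k x)⁻¹ * (x * x) = (k x)⁻¹ * ((k x)⁻¹ * x) * x := by group
          _ = (k x)⁻¹ * (x * (k x)⁻¹) * x := by rw [hxc' (k x)⁻¹]
          _ = ((k x)⁻¹ * x) * ((k x)⁻¹ * x) := by simp only [mul_assoc]
          _ = 1 := hfix
      rw [map_mul]
      exact (inv_mul_eq_one.mp h1)
    have hk1 := hfree k hk (x*x) (fun h => hx1 ((hEmem x).mpr h)) ((hEmem _).mp hx2) hkfix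
    apply MulEquiv.ext
    intro q
    obtain ⟨y, rfl⟩ := QuotientGroup.mk_surjective q
    rw [hφ, hk1]
    rfl
  have hzQ : ∃ z ∈ Subgroup.center (P ⧸ E), z*z ≠ 1 := by
    refine ⟨QuotientGroup.mk x', ?_, ?_⟩
    · rw [Subgroup.mem_center_iff]
      intro q
      obtain ⟨y, rfl⟩ := QuotientGroup.mk_surjective q
      rw [← QuotientGroup.mk_mul, ← QuotientGroup.mk_mul, QuotientGroup.eq, hEmem]
      exact hx'E y
    · rw [← QuotientGroup.mk_mul, Ne, QuotientGroup.eq_one_iff]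
      intro h
      exact hx'nc (hΩ 2 hm2 x' (hpow4 x' h))
  have hQab := ih (Nat.card (P ⧸ E)) hcardQ (P ⧸ E) rfl (h2.to_quotient E) (quotK K E)
    hKbab hexQ hfreeQ hzQ
  have hcmE : ∀ x y : P, cm x y * cm x y = 1 := by
    intro x y
    have := hQab (QuotientGroup.mk x) (QuotientGroup.mk y)
    rw [← QuotientGroup.mk_mul, ← QuotientGroup.mk_mul, eq_comm, QuotientGroup.eq, hEmem] at this
    exact this
  have hfin := field_arg K hKab hex hfree hcentinv hcmE m hm2 hZexp (hΩ m le_rfl)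
  exact hxy ((cm_eq_one_iff _ _).mp (hfin xa ya))

/-- Higman: a Suzuki 2-group has elementary abelian centre consisting of its involutions. -/
theorem suzuki_center {P : Type u} [Group P] (hP : Cfsg.IsSuzukiTwoGroup P) :
    (∀ x : P, x*x = 1 → x ∈ Subgroup.center P) ∧ ∀ z ∈ Subgroup.center P, z * z = 1 := by
  obtain ⟨hfin, h2, ⟨xa, ya, hxy⟩, _, K, hKcyc, hK⟩ := hP
  haveI := hfin
  have hKab : ∀ a ∈ K, ∀ b ∈ K, a * b = b * a := by
    intro a ha b hb
    haveI := hKcyc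
    obtain ⟨g, hg⟩ := IsCyclic.exists_generator (α := K)
    obtain ⟨i, hi⟩ := Subgroup.mem_zpowers_iff.mp (hg ⟨a, ha⟩)
    obtain ⟨j, hj⟩ := Subgroup.mem_zpowers_iff.mp (hg ⟨b, hb⟩)
    have h1 : (⟨a, ha⟩ : K) * ⟨b, hb⟩ = ⟨b, hb⟩ * ⟨a, ha⟩ := by
      rw [← hi, ← hj]; exact (Commute.zpow_zpow_self g i j)
    exact congrArg Subtype.val h1
  have hex : ∀ x y : P, x ≠ 1 → x*x = 1 → y ≠ 1 → y*y = 1 → ∃ k ∈ K, k x = y := by
    intro x y hx1 hx2 hy1 hy2
    obtain ⟨k, hk, _⟩ := hK x y hx1 hx2 hy1 hy2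
    exact ⟨k, k.2, hk⟩
  have hfree : ∀ k ∈ K, ∀ x : P, x ≠ 1 → x*x = 1 → k x = x → k = 1 := by
    intro k hk x hx1 hx2 hkx
    obtain ⟨l, hl, huniq⟩ := hK x x hx1 hx2 hx1 hx2
    have h1 := huniq ⟨k, hk⟩ hkx
    have h2' := huniq 1 rfl
    have := h1.trans h2'.symm
    exact congrArg Subtype.val this
  have hcentinv : ∀ x : P, x*x = 1 → x ∈ Subgroup.center P :=
    fun x hx => involution_mem_center h2 K hex hx
  refine ⟨hcentinv, ?_⟩
  intro z hz
  by_contra hzz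
  exact hxy (main_aux _ P rfl h2 K hKab hex hfree ⟨z, hz, hzz⟩ xa ya)

end Cfsg.Agent.Lib.Helper21.Suz2
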