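import Mathlib
import Cfsg.Agent.Lib.Helper48.Generation
import Cfsg.Agent.Lib.Helper49.CharP
import Cfsg.Agent.Lib.Helper20.PGroupOdd

/-!
A `p`-group (`p` odd) generated by two sets `C`, `D` acting coprimely on `N` such that
`⟨c^x, d⟩` is a `p`-group for all `x ∈ N`, `c ∈ C`, `d ∈ D` centralizes `N` (S2277).
-/

set_option autoImplicit false

namespace Cfsg.Agent.Lib.Helper21.TwoGen

open Cfsg.Agent.Lib

section abstract

variable {V : Type*} [CommGroup V] {p : ℕ} [Fact p.Prime]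

/-- The norm map of an automorphism. -/
noncomputable def nrm (p : ℕ) [Fact p.Prime] (φ : MulAut V) : V →* V where
  toFun v := ∏ j : ZMod p, (φ ^ j.val) v
  map_one' := by simp
  map_mul' v w := by simp [Finset.prod_mul_distrib]

theorem nrm_apply (φ : MulAut V) (v : V) : nrm p φ v = ∏ j : ZMod p, (φ ^ j.val) v := rfl

theorem nrm_fixed (φ : MulAut V) (hφ : φ ^ p = 1) (v : V) : φ (nrm p φ v) = nrm p φ v :=
  Helper48.norm_fixed φ hφ v

theorem nrm_of_fixed (φ : MulAut V) (v : V) (h : φ v = v) : nrm p φ v = v ^ p := by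
  have h1 : ∀ k : ℕ, (φ ^ k) v = v := by
    intro k
    induction k with
    | zero => simp
    | succ k ih => rw [pow_succ, MulAut.mul_apply, h, ih]
  rw [nrm_apply]
  simp only [h1]
  simp [Finset.card_univ, ZMod.card]

theorem nrm_conj (c φ φ' : MulAut V) (h : c * φ = φ' * c) (v : V) :
    c (nrm p φ v) = nrm p φ' (c v) := by
  have h1 : ∀ k : ℕ, c * φ ^ k = φ' ^ k * c := by
    intro k
    have : SemiconjBy c φ φ' := h
    exact (this.pow_right k)
  rw [nrm_apply, nrm_apply, map_prod]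
  apply Finset.prod_congr rfl
  intro j _
  rw [← MulAut.mul_apply, h1, MulAut.mul_apply]

theorem eq_one_of_pow_p [Finite V] (hV : ¬ p ∣ Nat.card V) (n : ℕ) (v : V) (h : v ^ (p ^ n) = 1) :
    v = 1 := by
  have hp : p.Prime := Fact.out
  have h1 : orderOf v ∣ p ^ n := orderOf_dvd_of_pow_eq_one h
  have h2 : orderOf v ∣ Nat.card V := orderOf_dvd_natCard v
  have h3 : (p ^ n).Coprime (Nat.card V) :=
    Nat.Coprime.pow_left n ((Nat.Prime.coprime_iff_not_dvd hp).mpr hV)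
  exact orderOf_eq_one_iff.mp (Nat.eq_one_of_dvd_coprimes h3 h1 h2)

theorem double_fixed (α β : MulAut V) (hc : Commute α β) (hβ : β ^ p = 1) (r : V) :
    β (∏ j : ZMod p, ∏ k : ZMod p, (α ^ j.val * β ^ k.val) r) =
      ∏ j : ZMod p, ∏ k : ZMod p, (α ^ j.val * β ^ k.val) r := by
  rw [map_prod]
  apply Finset.prod_congr rfl
  intro j _
  rw [map_prod]
  have h4 : ∀ k : ZMod p, β ((α ^ j.val * β ^ k.val) r) = (α ^ j.val * β ^ (k + 1).val) r := by
    intro k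
    rw [Helper48.pow_val_add β hβ, ZMod.val_one, pow_one, ← MulAut.mul_apply, ← mul_assoc,
      ← ((hc.pow_left j.val).eq), mul_assoc, ← pow_succ']
    rw [pow_succ]
  simp_rw [h4]
  exact Fintype.prod_equiv (Equiv.addRight (1 : ZMod p)) _ _ (fun k => rfl)

theorem norm_identity (α β : MulAut V) (hc : Commute α β) (hβ : β ^ p = 1) (r : V) :
    (∏ i : ZMod p, ∏ j : ZMod p, ((α * β ^ i.val) ^ j.val) r) * ∏ k : ZMod p, (β ^ k.val) r
      = r ^ p * ∏ j : ZMod p, ∏ k : ZMod p, (α ^ j.val * β ^ k.val) r := by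
  rw [Finset.prod_comm]
  have hterm : ∀ i j : ZMod p, ((α * β ^ i.val) ^ j.val) r = (α ^ j.val * β ^ (i * j).val) r := by
    intro i j
    rw [(hc.pow_right i.val).mul_pow, Helper48.pow_val_mul β hβ]
  simp_rw [hterm]
  have hj : ∀ j : ZMod p, j ≠ 0 → ∏ i : ZMod p, (α ^ j.val * β ^ (i * j).val) r
      = ∏ k : ZMod p, (α ^ j.val * β ^ k.val) r := by
    intro j hj
    exact Fintype.prod_equiv (Equiv.mulRight₀ j hj) _ _ (fun i => rfl)
  rw [← Finset.mul_prod_erase Finset.univ _ (Finset.mem_univ (0 : ZMod p)),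
    ← Finset.mul_prod_erase Finset.univ (fun j : ZMod p => ∏ k : ZMod p, (α ^ j.val * β ^ k.val) r)
      (Finset.mem_univ (0 : ZMod p))]
  have h0 : ∏ i : ZMod p, (α ^ (0 : ZMod p).val * β ^ (i * 0).val) r = r ^ p := by
    simp [ZMod.val_zero, Finset.card_univ, ZMod.card]
  have h0' : ∏ k : ZMod p, (α ^ (0 : ZMod p).val * β ^ k.val) r = ∏ k : ZMod p, (β ^ k.val) r := by
    simp [ZMod.val_zero]
  have hrest : ∏ j ∈ Finset.univ.erase (0 : ZMod p), ∏ i : ZMod p, (α ^ j.val * β ^ (i * j).val) r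
      = ∏ j ∈ Finset.univ.erase (0 : ZMod p), ∏ k : ZMod p, (α ^ j.val * β ^ k.val) r := by
    apply Finset.prod_congr rfl
    intro j hj'
    exact hj j (Finset.ne_of_mem_erase hj')
  rw [h0, h0', hrest]
  ac_rfl

/-- If all the norms `nrm (ξ ζ^i) u` vanish and `ζ` is fixed point free, then `u = 1`. -/
theorem eq_one_of_norms [Finite V] (hV : ¬ p ∣ Nat.card V) (ξ ζ : MulAut V) (hc : Commute ξ ζ)
    (hζ : ζ ^ p = 1) (hfix : ∀ v, ζ v = v → v = 1) (u : V)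
    (h : ∀ i : ZMod p, nrm p (ξ * ζ ^ i.val) u = 1) : u = 1 := by
  have hid := norm_identity ξ ζ hc hζ u
  have h1 : (∏ i : ZMod p, ∏ j : ZMod p, ((ξ * ζ ^ i.val) ^ j.val) u) = 1 := by
    apply Finset.prod_eq_one
    intro i _
    exact h i
  have h2 : ∏ k : ZMod p, (ζ ^ k.val) u = 1 := hfix _ (Helper48.norm_fixed ζ hζ u)
  have h3 : ∏ j : ZMod p, ∏ k : ZMod p, (ξ ^ j.val * ζ ^ k.val) u = 1 :=
    hfix _ (double_fixed ξ ζ hc hζ u)
  rw [h1, h2, h3, mul_one, mul_one] at hid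
  exact eq_one_of_pow_p hV 1 u (by rw [pow_one]; exact hid.symm)

theorem pow_p_inj [Finite V] (hV : ¬ p ∣ Nat.card V) {x y : V} (h : x ^ p = y ^ p) : x = y := by
  have h1 : (x * y⁻¹) ^ (p ^ 1) = 1 := by
    rw [pow_one, mul_pow, inv_pow, h, mul_inv_cancel]
  exact mul_inv_eq_one.mp (eq_one_of_pow_p hV 1 _ h1)

/-- Fixed points of `ξ θ` are killed by the norm of `ξ θ'` for `θ ≠ θ'`. -/
theorem nrm_eq_one_of_fixed (ξ : MulAut V) (Z : Subgroup (MulAut V)) (hξp : ξ ^ p = 1)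
    (hZξ : ∀ θ ∈ Z, Commute ξ θ) (hZc : ∀ θ ∈ Z, ∀ θ' ∈ Z, Commute θ θ')
    (hZp : ∀ θ ∈ Z, θ ^ p = 1)
    (hZfix : ∀ θ ∈ Z, θ ≠ 1 → ∀ v, θ v = v → v = 1)
    (θ θ' : MulAut V) (hθ : θ ∈ Z) (hθ' : θ' ∈ Z) (hne : θ ≠ θ') (a : V) (ha : (ξ * θ) a = a) :
    nrm p (ξ * θ') a = 1 := by
  have hpow : (ξ * θ') ^ p = 1 := by
    rw [(hZξ θ' hθ').mul_pow, hξp, hZp θ' hθ', one_mul]
  have h1 : (ξ * θ') (nrm p (ξ * θ') a) = nrm p (ξ * θ') a := nrm_fixed _ hpow a
  have hcomm : (ξ * θ) * (ξ * θ') = (ξ * θ') * (ξ * θ) := by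
    have e1 := (hZξ θ hθ).eq
    have e2 := (hZξ θ' hθ').eq
    have e3 := (hZc θ hθ θ' hθ').eq
    calc (ξ * θ) * (ξ * θ') = ξ * (θ * ξ) * θ' := by simp only [mul_assoc]
      _ = ξ * (ξ * θ) * θ' := by rw [e1]
      _ = ξ * ξ * (θ * θ') := by simp only [mul_assoc]
      _ = ξ * ξ * (θ' * θ) := by rw [e3]
      _ = ξ * (ξ * θ') * θ := by simp only [mul_assoc]
      _ = ξ * (θ' * ξ) * θ := by rw [e2]
      _ = (ξ * θ') * (ξ * θ) := by simp only [mul_assoc]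
  have h2 : (ξ * θ) (nrm p (ξ * θ') a) = nrm p (ξ * θ') a := by
    rw [nrm_conj (ξ * θ) (ξ * θ') (ξ * θ') hcomm, ha]
  generalize nrm p (ξ * θ') a = w at h1 h2 ⊢
  have h3 : θ w = θ' w := by
    have e1 : ξ (θ w) = w := h2
    have e2 : ξ (θ' w) = w := h1
    exact ξ.injective (e1.trans e2.symm)
  have h4 : (θ⁻¹ * θ') w = w := by
    rw [MulAut.mul_apply, ← h3]
    exact MulAut.inv_apply_self _ θ w
  have h5 : θ⁻¹ * θ' ≠ 1 := by
    intro h
    apply hne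
    have h6 : θ * (θ⁻¹ * θ') = θ * 1 := by rw [h]
    rw [mul_inv_cancel_left, mul_one] at h6
    exact h6.symm
  exact hZfix _ (Z.mul_mem (Z.inv_mem hθ) hθ') h5 w h4

/-- A fixed point `u` of `c`, where `c` moves `ξ` to `ξ η`, with one vanishing norm is trivial. -/
theorem core [Finite V] (hV : ¬ p ∣ Nat.card V) (ξ : MulAut V) (Z : Subgroup (MulAut V))
    (hZξ : ∀ θ ∈ Z, Commute ξ θ) (hZc : ∀ θ ∈ Z, ∀ θ' ∈ Z, Commute θ θ')
    (hZp : ∀ θ ∈ Z, θ ^ p = 1)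
    (hZfix : ∀ θ ∈ Z, θ ≠ 1 → ∀ v, θ v = v → v = 1)
    (hZgen : ∀ η ∈ Z, η ≠ 1 → ∀ θ ∈ Z, ∃ k : ℕ, θ = η ^ k)
    (c η : MulAut V) (hη : η ∈ Z) (hη1 : η ≠ 1) (hcξ : c * ξ = ξ * η * c)
    (hcZ : ∀ θ ∈ Z, Commute c θ) (θ : MulAut V) (hθ : θ ∈ Z) (u : V) (hu : c u = u)
    (h1 : nrm p (ξ * θ) u = 1) : u = 1 := by
  have hk : ∀ k : ℕ, nrm p (ξ * (θ * η ^ k)) u = 1 := by
    intro k
    induction k with
    | zero => simpa using h1
    | succ k ih =>
      have h2 : Commute c (θ * η ^ k) := hcZ _ (Z.mul_mem hθ (Z.pow_mem hη k))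
      have h3 : η * θ = θ * η := (hZc η hη θ hθ).eq
      have hsemi : c * (ξ * (θ * η ^ k)) = (ξ * (θ * η ^ (k + 1))) * c := by
        calc c * (ξ * (θ * η ^ k)) = (c * ξ) * (θ * η ^ k) := by rw [mul_assoc]
          _ = ξ * η * c * (θ * η ^ k) := by rw [hcξ]
          _ = ξ * η * ((θ * η ^ k) * c) := by rw [mul_assoc (ξ * η), h2.eq]
          _ = ξ * (η * θ) * η ^ k * c := by simp only [mul_assoc]
          _ = ξ * (θ * η) * η ^ k * c := by rw [h3]
          _ = ξ * (θ * (η * η ^ k)) * c := by simp only [mul_assoc]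
          _ = ξ * (θ * η ^ (k + 1)) * c := by rw [← pow_succ']
      have h4 := nrm_conj (p := p) c _ _ hsemi u
      rw [hu, ih, map_one] at h4
      exact h4.symm
  have hall : ∀ θ' ∈ Z, nrm p (ξ * θ') u = 1 := by
    intro θ' hθ'
    obtain ⟨k, hk'⟩ := hZgen η hη hη1 (θ⁻¹ * θ') (Z.mul_mem (Z.inv_mem hθ) hθ')
    have h5 : θ' = θ * η ^ k := by rw [← hk']; group
    rw [h5]; exact hk k
  exact eq_one_of_norms hV ξ η (hZξ η hη) (hZp η hη) (hZfix η hη hη1) u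
    (fun i => hall _ (Z.pow_mem hη _))

theorem card_fix_le [Finite V] (c φ : MulAut V) (hφ : φ ^ p = 1)
    (h : ∀ u, c u = u → nrm p φ u = 1 → u = 1) :
    Nat.card (Helper48.fixSubgroup c) ≤ Nat.card (Helper48.fixSubgroup φ) := by
  let f : Helper48.fixSubgroup c → Helper48.fixSubgroup φ :=
    fun u => ⟨nrm p φ u, nrm_fixed φ hφ u⟩
  apply Nat.card_le_card_of_injective f
  intro u u' huu
  have h1 : nrm p φ (u : V) = nrm p φ (u' : V) := congrArg Subtype.val huu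
  have h2 : nrm p φ ((u : V) * (u' : V)⁻¹) = 1 := by
    rw [map_mul, map_inv, h1, mul_inv_cancel]
  have h3 : c ((u : V) * (u' : V)⁻¹) = (u : V) * (u' : V)⁻¹ := by
    rw [map_mul, map_inv, (Helper48.mem_fixSubgroup c _).mp u.2,
      (Helper48.mem_fixSubgroup c _).mp u'.2]
  have h4 := h _ h3 h2
  exact Subtype.ext (mul_inv_eq_one.mp h4)

/-- The counting argument. -/
theorem all_one [Finite V] (hV : ¬ p ∣ Nat.card V) (ξ : MulAut V) (Z : Subgroup (MulAut V))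
    (hξp : ξ ^ p = 1)
    (hZξ : ∀ θ ∈ Z, Commute ξ θ) (hZc : ∀ θ ∈ Z, ∀ θ' ∈ Z, Commute θ θ')
    (hZp : ∀ θ ∈ Z, θ ^ p = 1)
    (hZfix : ∀ θ ∈ Z, θ ≠ 1 → ∀ v, θ v = v → v = 1)
    (hZgen : ∀ η ∈ Z, η ≠ 1 → ∀ θ ∈ Z, ∃ k : ℕ, θ = η ^ k)
    (θ₀ θ₁ θ₂ : MulAut V) (h₀ : θ₀ ∈ Z) (h₁ : θ₁ ∈ Z) (h₂ : θ₂ ∈ Z)
    (h01 : θ₀ ≠ θ₁) (h02 : θ₀ ≠ θ₂) (h12 : θ₁ ≠ θ₂)
    (c d ηc ηd : MulAut V) (hηc : ηc ∈ Z) (hηc1 : ηc ≠ 1) (hcξ : c * ξ = ξ * ηc * c)
    (hcZ : ∀ θ ∈ Z, Commute c θ)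
    (hηd : ηd ∈ Z) (hηd1 : ηd ≠ 1) (hdξ : d * ξ = ξ * ηd * d)
    (hdZ : ∀ θ ∈ Z, Commute d θ)
    (hE : ∀ v : V, ∃ n y : V, v = n * y ∧ d n = n ∧ c y = y) : ∀ v : V, v = 1 := by
  have hpow : ∀ θ ∈ Z, (ξ * θ) ^ p = 1 := fun θ hθ => by
    rw [(hZξ θ hθ).mul_pow, hξp, hZp θ hθ, one_mul]
  have hc : ∀ θ ∈ Z, Nat.card (Helper48.fixSubgroup c) ≤
      Nat.card (Helper48.fixSubgroup (ξ * θ)) :=
    fun θ hθ => card_fix_le c (ξ * θ) (hpow θ hθ) (fun u hu h1 =>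
      core hV ξ Z hZξ hZc hZp hZfix hZgen c ηc hηc hηc1 hcξ hcZ θ hθ u hu h1)
  have hd : ∀ θ ∈ Z, Nat.card (Helper48.fixSubgroup d) ≤
      Nat.card (Helper48.fixSubgroup (ξ * θ)) :=
    fun θ hθ => card_fix_le d (ξ * θ) (hpow θ hθ) (fun u hu h1 =>
      core hV ξ Z hZξ hZc hZp hZfix hZgen d ηd hηd hηd1 hdξ hdZ θ hθ u hu h1)
  have hV2 : Nat.card V ≤
      Nat.card (Helper48.fixSubgroup d) * Nat.card (Helper48.fixSubgroup c) := by
    rw [← Nat.card_prod]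
    let g : Helper48.fixSubgroup d × Helper48.fixSubgroup c → V :=
      fun t => (t.1 : V) * (t.2 : V)
    apply Nat.card_le_card_of_surjective g
    intro v
    obtain ⟨n, y, hv, hn, hy⟩ := hE v
    exact ⟨(⟨n, hn⟩, ⟨y, hy⟩), hv.symm⟩
  have K1 := nrm_eq_one_of_fixed (p := p) ξ Z hξp hZξ hZc hZp hZfix
  have h3 : Nat.card (Helper48.fixSubgroup (ξ * θ₀)) * Nat.card (Helper48.fixSubgroup (ξ * θ₁)) *
      Nat.card (Helper48.fixSubgroup (ξ * θ₂)) ≤ Nat.card V := by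
    rw [← Nat.card_prod, ← Nat.card_prod]
    let g : (Helper48.fixSubgroup (ξ * θ₀) × Helper48.fixSubgroup (ξ * θ₁)) ×
        Helper48.fixSubgroup (ξ * θ₂) → V := fun t => (t.1.1 : V) * (t.1.2 : V) * (t.2 : V)
    apply Nat.card_le_card_of_injective g
    rintro ⟨⟨a, b⟩, e⟩ ⟨⟨a', b'⟩, e'⟩ hg
    have hg' : (a : V) * (b : V) * (e : V) = (a' : V) * (b' : V) * (e' : V) := hg
    have key : ∀ (a : Helper48.fixSubgroup (ξ * θ₀)) (b : Helper48.fixSubgroup (ξ * θ₁))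
        (e : Helper48.fixSubgroup (ξ * θ₂)),
        nrm p (ξ * θ₀) ((a : V) * (b : V) * (e : V)) = (a : V) ^ p ∧
        nrm p (ξ * θ₁) ((a : V) * (b : V) * (e : V)) = (b : V) ^ p ∧
        nrm p (ξ * θ₂) ((a : V) * (b : V) * (e : V)) = (e : V) ^ p := by
      intro a b e
      have ha := (Helper48.mem_fixSubgroup _ _).mp a.2
      have hb := (Helper48.mem_fixSubgroup _ _).mp b.2
      have he := (Helper48.mem_fixSubgroup _ _).mp e.2
      refine ⟨?_, ?_, ?_⟩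
      · rw [map_mul, map_mul, nrm_of_fixed _ _ ha, K1 θ₁ θ₀ h₁ h₀ h01.symm _ hb,
          K1 θ₂ θ₀ h₂ h₀ h02.symm _ he, mul_one, mul_one]
      · rw [map_mul, map_mul, nrm_of_fixed _ _ hb, K1 θ₀ θ₁ h₀ h₁ h01 _ ha,
          K1 θ₂ θ₁ h₂ h₁ h12.symm _ he, mul_one, one_mul]
      · rw [map_mul, map_mul, nrm_of_fixed _ _ he, K1 θ₀ θ₂ h₀ h₂ h02 _ ha,
          K1 θ₁ θ₂ h₁ h₂ h12 _ hb, one_mul, one_mul]
    obtain ⟨k1, k2, k3⟩ := key a b e
    obtain ⟨k1', k2', k3'⟩ := key a' b' e'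
    rw [hg'] at k1 k2 k3
    have ea : (a : V) = a' := pow_p_inj hV (k1.symm.trans k1')
    have eb : (b : V) = b' := pow_p_inj hV (k2.symm.trans k2')
    have ee : (e : V) = e' := pow_p_inj hV (k3.symm.trans k3')
    have ea' : a = a' := Subtype.ext ea
    have eb' : b = b' := Subtype.ext eb
    have ee' : e = e' := Subtype.ext ee
    rw [ea', eb', ee']
  have hc0 := hc θ₀ h₀
  have hd1 := hd θ₁ h₁
  have hc2 := hc θ₂ h₂
  have hd2 := hd θ₂ h₂
  have pos0 : 0 < Nat.card (Helper48.fixSubgroup (ξ * θ₀)) := Nat.card_pos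
  have pos1 : 0 < Nat.card (Helper48.fixSubgroup (ξ * θ₁)) := Nat.card_pos
  have hn2 : Nat.card (Helper48.fixSubgroup (ξ * θ₂)) ≤ 1 := by
    have h4 : Nat.card (Helper48.fixSubgroup (ξ * θ₀)) * Nat.card (Helper48.fixSubgroup (ξ * θ₁)) *
        Nat.card (Helper48.fixSubgroup (ξ * θ₂)) ≤
        Nat.card (Helper48.fixSubgroup (ξ * θ₀)) * Nat.card (Helper48.fixSubgroup (ξ * θ₁)) * 1 := by
      calc _ ≤ Nat.card V := h3
        _ ≤ Nat.card (Helper48.fixSubgroup d) * Nat.card (Helper48.fixSubgroup c) := hV2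
        _ ≤ Nat.card (Helper48.fixSubgroup (ξ * θ₁)) * Nat.card (Helper48.fixSubgroup (ξ * θ₀)) :=
          Nat.mul_le_mul hd1 hc0
        _ = _ := by rw [mul_one, mul_comm]
    exact Nat.le_of_mul_le_mul_left h4 (Nat.mul_pos pos0 pos1)
  have hV1 : Nat.card V ≤ 1 := by
    calc Nat.card V ≤ Nat.card (Helper48.fixSubgroup d) * Nat.card (Helper48.fixSubgroup c) := hV2
      _ ≤ 1 * 1 := Nat.mul_le_mul (hd2.trans hn2) (hc2.trans hn2)
  have hsub : Subsingleton V := Finite.card_le_one_iff_subsingleton.mp hV1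
  intro v
  exact Subsingleton.elim v 1

/-- **Key lemma**: a `p`-group `A` (`p` odd) of automorphisms of an abelian `p'`-group `V`, acting
"irreducibly" and nontrivially, cannot be generated by sets `C₀`, `D₀` with
`V = C_V(d) C_V(c)` for all `c ∈ C₀`, `d ∈ D₀`. -/
theorem lemmaF [Finite V] (hp2 : p ≠ 2)
    (hV : ¬ p ∣ Nat.card V) (A : Subgroup (MulAut V)) (hA : IsPGroup p A) (hA1 : A ≠ ⊥)
    (hinv : ∀ W : Subgroup V, (∀ a ∈ A, ∀ w ∈ W, a w ∈ W) → W ≠ ⊤ → ∀ a ∈ A, ∀ w ∈ W, a w = w)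
    (C₀ D₀ : Set (MulAut V)) (hC : Subgroup.closure C₀ = A) (hD : Subgroup.closure D₀ = A)
    (hE : ∀ v : V, ∀ c ∈ C₀, ∀ d ∈ D₀, ∃ n y : V, v = n * y ∧ d n = n ∧ c y = y) : False := by
  classical
  have hp : p.Prime := Fact.out
  have htriv : (∀ v : V, v = 1) → False := by
    intro h
    apply hA1
    rw [eq_bot_iff]
    intro a _
    rw [Subgroup.mem_bot]
    ext v
    rw [h (a v), h v]
    rfl
  have hfixA : ∀ v : V, (∀ a ∈ A, a v = v) → v = 1 := by
    letI : Fintype A := Fintype.ofFinite A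
    obtain ⟨n, hn⟩ := IsPGroup.iff_card.mp hA
    let τ : V →* V :=
      { toFun := fun v => ∏ a : A, (a : MulAut V) v
        map_one' := by simp
        map_mul' := fun v w => by simp [Finset.prod_mul_distrib] }
    have hτ : ∀ v, τ v = ∏ a : A, (a : MulAut V) v := fun v => rfl
    have hτfix : ∀ v, (∀ a ∈ A, a v = v) → τ v = v ^ (p ^ n) := by
      intro v hv
      rw [hτ]
      have h1 : ∀ a : A, (a : MulAut V) v = v := fun a => hv a a.2
      simp only [h1]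
      rw [Finset.prod_const, Finset.card_univ, ← Nat.card_eq_fintype_card, hn]
    have hτb : ∀ (b : MulAut V), b ∈ A → ∀ v, τ (b v) = τ v := by
      intro b hb v
      rw [hτ, hτ]
      exact Fintype.prod_equiv (Equiv.mulRight (⟨b, hb⟩ : A)) _ _ (fun a => rfl)
    have hbτ : ∀ (b : MulAut V), b ∈ A → ∀ v, b (τ v) = τ v := by
      intro b hb v
      rw [hτ, map_prod]
      exact Fintype.prod_equiv (Equiv.mulLeft (⟨b, hb⟩ : A)) _ _ (fun a => rfl)
    intro v hv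
    by_cases hker : τ.ker = ⊤
    · have h1 : τ v = 1 := by
        have h2 : v ∈ τ.ker := by rw [hker]; exact Subgroup.mem_top v
        exact MonoidHom.mem_ker.mp h2
      rw [hτfix v hv] at h1
      exact eq_one_of_pow_p hV n v h1
    · exfalso
      have h1 := hinv τ.ker (fun a ha w hw => by
        rw [MonoidHom.mem_ker] at hw ⊢
        rw [hτb a ha, hw]) hker
      have h2 : ∀ w ∈ τ.ker, w = 1 := by
        intro w hw
        have h3 := hτfix w (fun a ha => h1 a ha w hw)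
        rw [MonoidHom.mem_ker.mp hw] at h3
        exact eq_one_of_pow_p hV n w h3.symm
      have hinj : Function.Injective τ := by
        rw [injective_iff_map_eq_one]
        intro w hw
        exact h2 w (MonoidHom.mem_ker.mpr hw)
      have hsurj : Function.Surjective τ := Finite.injective_iff_surjective.mp hinj
      apply hA1
      rw [eq_bot_iff]
      intro a ha
      rw [Subgroup.mem_bot]
      ext v'
      obtain ⟨v'', rfl⟩ := hsurj v'
      exact hbτ a ha v''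
  have hfixelt : ∀ φ ∈ A, φ ≠ 1 → (∀ a ∈ A, Commute a φ) → ∀ v, φ v = v → v = 1 := by
    intro φ hφ hφ1 hcomm v hv
    have h1 := hinv (Helper48.fixSubgroup φ) (fun a ha w hw => by
      rw [Helper48.mem_fixSubgroup] at hw ⊢
      rw [← MulAut.mul_apply, ← (hcomm a ha).eq, MulAut.mul_apply, hw]) (by
      intro htop
      apply hφ1
      ext w
      have h2 : w ∈ Helper48.fixSubgroup φ := by rw [htop]; exact Subgroup.mem_top w
      exact h2)
    exact hfixA v (fun a ha => h1 a ha v hv)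
  have hCA : C₀ ⊆ A := by rw [← hC]; exact Subgroup.subset_closure
  have hDA : D₀ ⊆ A := by rw [← hD]; exact Subgroup.subset_closure
  have hCne : ∀ (S : Set (MulAut V)), Subgroup.closure S = A → ∃ c ∈ S, c ≠ 1 := by
    intro S hS
    by_contra hno
    push Not at hno
    apply hA1
    rw [← hS, eq_bot_iff, Subgroup.closure_le]
    intro c hc
    rw [SetLike.mem_coe, Subgroup.mem_bot]
    exact hno c hc
  by_cases hcomm : ∀ a ∈ A, ∀ b ∈ A, Commute a b
  · obtain ⟨c, hc, hc1⟩ := hCne C₀ hC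
    obtain ⟨d, hd, hd1⟩ := hCne D₀ hD
    apply htriv
    intro v
    obtain ⟨n, y, hv, hn, hy⟩ := hE v c hc d hd
    rw [hv, hfixelt d (hDA hd) hd1 (fun a ha => hcomm a ha d (hDA hd)) n hn,
      hfixelt c (hCA hc) hc1 (fun a ha => hcomm a ha c (hCA hc)) y hy, mul_one]
  · have hnc : ¬ IsCyclic A := by
      intro hcyc
      apply hcomm
      obtain ⟨g, hg⟩ := IsCyclic.exists_generator (α := A)
      intro a ha b hb
      obtain ⟨m, hm⟩ := Subgroup.mem_zpowers_iff.mp (hg ⟨a, ha⟩)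
      obtain ⟨k, hk⟩ := Subgroup.mem_zpowers_iff.mp (hg ⟨b, hb⟩)
      have h1 : Commute (⟨a, ha⟩ : A) ⟨b, hb⟩ := by
        rw [← hm, ← hk]; exact Commute.zpow_zpow_self g m k
      exact congrArg Subtype.val h1.eq
    obtain ⟨z₀, x, hz₀c, hz₀o, hxp, hxz, hxn⟩ := Helper20.exists_normal_rank_two hp2 hA hnc
    set ζ : MulAut V := (z₀ : MulAut V) with hζdef
    set ξ : MulAut V := (x : MulAut V) with hξdef
    have hζA : ζ ∈ A := z₀.2
    have hξA : ξ ∈ A := x.2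
    have hζcent : ∀ a ∈ A, Commute a ζ := by
      intro a ha
      have h1 := Subgroup.mem_center_iff.mp hz₀c ⟨a, ha⟩
      exact congrArg Subtype.val h1
    have hζo : orderOf ζ = p := by rw [hζdef, Subgroup.orderOf_coe, hz₀o]
    have hζ1 : ζ ≠ 1 := by
      intro h
      rw [h, orderOf_one] at hζo
      exact hp.one_lt.ne hζo
    have hζp : ζ ^ p = 1 := by rw [← hζo]; exact pow_orderOf_eq_one ζ
    have hξp : ξ ^ p = 1 := by
      have h1 := congrArg Subtype.val hxp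
      simpa using h1
    set Z : Subgroup (MulAut V) := Subgroup.zpowers ζ with hZdef
    have hζZ : ζ ∈ Z := Subgroup.mem_zpowers ζ
    have hξZ : ξ ∉ Z := by
      intro h
      obtain ⟨k, hk⟩ := Subgroup.mem_zpowers_iff.mp h
      apply hxz
      rw [Subgroup.mem_zpowers_iff]
      refine ⟨k, Subtype.ext ?_⟩
      rw [Subgroup.coe_zpow]
      exact hk
    have hconjZ : ∀ a ∈ A, ξ⁻¹ * (a * ξ * a⁻¹) ∈ Z := by
      intro a ha
      obtain ⟨k, hk⟩ := Subgroup.mem_zpowers_iff.mp (hxn ⟨a, ha⟩)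
      refine Subgroup.mem_zpowers_iff.mpr ⟨k, ?_⟩
      have h1 := congrArg Subtype.val hk
      rw [Subgroup.coe_zpow] at h1
      exact h1
    have hZA : Z ≤ A := (Subgroup.zpowers_le).mpr hζA
    have hZcent : ∀ θ ∈ Z, ∀ a ∈ A, Commute a θ := by
      intro θ hθ a ha
      obtain ⟨k, hk⟩ := Subgroup.mem_zpowers_iff.mp hθ
      rw [← hk]
      exact (hζcent a ha).zpow_right k
    have hZξ : ∀ θ ∈ Z, Commute ξ θ := fun θ hθ => hZcent θ hθ ξ hξA
    have hZc : ∀ θ ∈ Z, ∀ θ' ∈ Z, Commute θ θ' := fun θ hθ θ' hθ' => hZcent θ' hθ' θ (hZA hθ)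
    have hZp : ∀ θ ∈ Z, θ ^ p = 1 := by
      intro θ hθ
      obtain ⟨k, hk⟩ := Subgroup.mem_zpowers_iff.mp hθ
      rw [← hk, ← zpow_natCast, ← zpow_mul, mul_comm, zpow_mul, zpow_natCast, hζp, one_zpow]
    have hZgen : ∀ η ∈ Z, η ≠ 1 → ∀ θ ∈ Z, ∃ k : ℕ, θ = η ^ k := by
      have hcardZ : Nat.card Z = p := by rw [hZdef, Nat.card_zpowers, hζo]
      intro η hη hη1 θ hθ
      have h1 : (⟨η, hη⟩ : Z) ≠ 1 := fun h => hη1 (congrArg Subtype.val h)
      obtain ⟨k, hk⟩ := (Submonoid.mem_powers_iff _ _).mp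
        (mem_powers_of_prime_card hcardZ h1 (g' := (⟨θ, hθ⟩ : Z)))
      exact ⟨k, (congrArg Subtype.val hk).symm⟩
    have hZfix : ∀ θ ∈ Z, θ ≠ 1 → ∀ v, θ v = v → v = 1 :=
      fun θ hθ hθ1 => hfixelt θ (hZA hθ) hθ1 (hZcent θ hθ)
    have hpow : ∀ θ ∈ Z, (ξ * θ) ^ p = 1 := fun θ hθ => by
      rw [(hZξ θ hθ).mul_pow, hξp, hZp θ hθ, one_mul]
    have hexS : ∀ (S : Set (MulAut V)), Subgroup.closure S = A → ∃ c ∈ S, ¬ Commute c ξ := by
      intro S hS
      by_contra hno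
      push Not at hno
      have hξcent : ∀ a ∈ A, Commute a ξ := by
        intro a ha
        have h1 : Subgroup.closure S ≤ Subgroup.centralizer {ξ} := by
          rw [Subgroup.closure_le]
          intro c hc
          rw [SetLike.mem_coe, Subgroup.mem_centralizer_iff]
          intro h hh
          rw [Set.mem_singleton_iff] at hh
          rw [hh]
          exact (hno c hc).eq.symm
        rw [← hS] at ha
        have h2 := h1 ha
        rw [Subgroup.mem_centralizer_iff] at h2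
        exact (h2 ξ rfl).symm
      apply htriv
      intro u
      apply eq_one_of_norms hV ξ ζ (hZξ ζ hζZ) hζp (hZfix ζ hζZ hζ1) u
      intro i
      have hθ : ζ ^ i.val ∈ Z := Z.pow_mem hζZ _
      have hne : ξ * ζ ^ i.val ≠ 1 := by
        intro h
        apply hξZ
        have h1 : ξ = (ζ ^ i.val)⁻¹ := eq_inv_of_mul_eq_one_left h
        rw [h1]; exact Z.inv_mem hθ
      exact hfixelt _ (A.mul_mem hξA (hZA hθ)) hne
        (fun a ha => (hξcent a ha).mul_right (hZcent _ hθ a ha)) _ (nrm_fixed _ (hpow _ hθ) u)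
    obtain ⟨c₀, hc₀, hc₀ξ⟩ := hexS C₀ hC
    obtain ⟨d₀, hd₀, hd₀ξ⟩ := hexS D₀ hD
    have hη : ∀ e ∈ A, ¬ Commute e ξ → ξ⁻¹ * (e * ξ * e⁻¹) ≠ 1 ∧
        e * ξ = ξ * (ξ⁻¹ * (e * ξ * e⁻¹)) * e := by
      intro e _ hne
      refine ⟨?_, by group⟩
      intro h
      apply hne
      have h1 : e * ξ = ξ * (ξ⁻¹ * (e * ξ * e⁻¹)) * e := by group
      rw [h, mul_one] at h1
      exact h1
    have hζ2 : ζ ^ 2 ≠ 1 := by
      intro h
      have h1 : orderOf ζ ∣ 2 := orderOf_dvd_of_pow_eq_one h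
      rw [hζo] at h1
      have h2 : p ≤ 2 := Nat.le_of_dvd (by norm_num) h1
      have h3 := hp.two_le
      omega
    have h01 : (1 : MulAut V) ≠ ζ := fun h => hζ1 h.symm
    have h02 : (1 : MulAut V) ≠ ζ ^ 2 := fun h => hζ2 h.symm
    have h12 : ζ ≠ ζ ^ 2 := by
      intro h
      apply hζ1
      have h1 : ζ * 1 = ζ * ζ := by rw [mul_one, ← pow_two]; exact h
      exact (mul_left_cancel h1).symm
    apply htriv
    exact all_one hV ξ Z hξp hZξ hZc hZp hZfix hZgen 1 ζ (ζ ^ 2) Z.one_mem hζZ (Z.pow_mem hζZ 2)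
      h01 h02 h12 c₀ d₀ _ _ (hconjZ c₀ (hCA hc₀)) (hη c₀ (hCA hc₀) hc₀ξ).1 (hη c₀ (hCA hc₀) hc₀ξ).2
      (fun θ hθ => hZcent θ hθ c₀ (hCA hc₀))
      (hconjZ d₀ (hDA hd₀)) (hη d₀ (hDA hd₀) hd₀ξ).1 (hη d₀ (hDA hd₀) hd₀ξ).2
      (fun θ hθ => hZcent θ hθ d₀ (hDA hd₀))
      (fun v => hE v c₀ hc₀ d₀ hd₀)

end abstract

section concrete

open scoped Pointwise

variable {G : Type*} [Group G]

theorem mem_sup_prod {L A : Subgroup G} (hA : A ≤ Subgroup.normalizer (L : Set G)) {e : G}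
    (he : e ∈ L ⊔ A) : ∃ l ∈ L, ∃ a ∈ A, e = l * a := by
  rw [Subgroup.sup_eq_closure] at he
  induction he using Subgroup.closure_induction with
  | mem x hx =>
    rcases hx with hx | hx
    · exact ⟨x, hx, 1, A.one_mem, (mul_one x).symm⟩
    · exact ⟨1, L.one_mem, x, hx, (one_mul x).symm⟩
  | one => exact ⟨1, L.one_mem, 1, A.one_mem, (mul_one 1).symm⟩
  | mul x y _ _ hx hy =>
    obtain ⟨l, hl, a, ha, rfl⟩ := hx
    obtain ⟨l', hl', a', ha', rfl⟩ := hy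
    have h1 : a * l' * a⁻¹ ∈ L := (Subgroup.mem_normalizer_iff.mp (hA ha) l').mp hl'
    refine ⟨l * (a * l' * a⁻¹), L.mul_mem hl h1, a * a', A.mul_mem ha ha', ?_⟩
    group
  | inv x _ hx =>
    obtain ⟨l, hl, a, ha, rfl⟩ := hx
    have h1 : a⁻¹ * l⁻¹ * a⁻¹⁻¹ ∈ L :=
      (Subgroup.mem_normalizer_iff.mp (hA (A.inv_mem ha)) l⁻¹).mp (L.inv_mem hl)
    refine ⟨a⁻¹ * l⁻¹ * a⁻¹⁻¹, h1, a⁻¹, A.inv_mem ha, ?_⟩
    group

theorem le_normalizer_of_conj {N Q : Subgroup G} (h : ∀ g ∈ N, ∀ x ∈ Q, g * x * g⁻¹ ∈ Q) :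
    N ≤ Subgroup.normalizer (Q : Set G) := by
  intro g hg
  rw [Subgroup.mem_normalizer_iff]
  intro x
  constructor
  · exact h g hg x
  · intro hx
    have := h g⁻¹ (N.inv_mem hg) _ hx
    simpa [mul_assoc] using this

theorem eq_one_of_pow_mem [Finite G] {p : ℕ} [Fact p.Prime] {N : Subgroup G}
    (hN : ¬ p ∣ Nat.card N) {g : G} (hgN : g ∈ N) {k : ℕ} (hk : g ^ (p ^ k) = 1) : g = 1 := by
  have hp : p.Prime := Fact.out
  have h1 : orderOf g ∣ p ^ k := orderOf_dvd_of_pow_eq_one hk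
  have h2 : orderOf g ∣ Nat.card N := Subgroup.orderOf_dvd_natCard N hgN
  have h3 : (p ^ k).Coprime (Nat.card N) :=
    Nat.Coprime.pow_left k ((Nat.Prime.coprime_iff_not_dvd hp).mpr hN)
  exact orderOf_eq_one_iff.mp (Nat.eq_one_of_dvd_coprimes h3 h1 h2)

theorem eq_one_of_mem_of_mem [Finite G] {p : ℕ} [Fact p.Prime] {P N : Subgroup G}
    (hP : IsPGroup p P) (hN : ¬ p ∣ Nat.card N) {g : G} (hgN : g ∈ N) (hgP : g ∈ P) : g = 1 := by
  obtain ⟨k, hk⟩ := hP ⟨g, hgP⟩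
  exact eq_one_of_pow_mem hN hgN (congrArg Subtype.val hk)

/-- A `p`-subgroup of `N P` is conjugate into `P` by an element of `N`. -/
theorem exists_conj_le [Finite G] {p : ℕ} [Fact p.Prime] {P N : Subgroup G} (hP : IsPGroup p P)
    (hN : ¬ p ∣ Nat.card N) (hPN : P ≤ Subgroup.normalizer (N : Set G))
    (T : Subgroup G) (hT : IsPGroup p T) (hTK : T ≤ N ⊔ P) :
    ∃ n ∈ N, ∀ t ∈ T, n⁻¹ * t * n ∈ P := by
  have hPK : P ≤ N ⊔ P := le_sup_right
  obtain ⟨S, hS⟩ := (hP.comap_subtype (K := N ⊔ P)).exists_le_sylow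
  obtain ⟨S', hS'⟩ := (hT.comap_subtype (K := N ⊔ P)).exists_le_sylow
  obtain ⟨k, hk⟩ := MulAction.exists_smul_eq (N ⊔ P : Subgroup G) S S'
  have hSP : ∀ s : (N ⊔ P : Subgroup G), s ∈ S → (s : G) ∈ P := by
    intro s hs
    obtain ⟨n, hn, u, hu, hsnu⟩ := mem_sup_prod hPN s.2
    have huS : (⟨u, hPK hu⟩ : (N ⊔ P : Subgroup G)) ∈ S := hS (Subgroup.mem_comap.mpr hu)
    have hnK : n ∈ N ⊔ P := (le_sup_left : N ≤ N ⊔ P) hn
    have hnS : (⟨n, hnK⟩ : (N ⊔ P : Subgroup G)) ∈ S := by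
      have h1 : (⟨n, hnK⟩ : (N ⊔ P : Subgroup G)) = s * (⟨u, hPK hu⟩ : (N ⊔ P : Subgroup G))⁻¹ := by
        apply Subtype.ext
        simp [hsnu]
      rw [h1]
      exact mul_mem hs (inv_mem huS)
    have hn1 : n = 1 := by
      obtain ⟨j, hj⟩ := S.isPGroup' ⟨⟨n, hnK⟩, hnS⟩
      have hj' : n ^ (p ^ j) = 1 := by
        have h2 := congrArg (fun z : S => ((z : (N ⊔ P : Subgroup G)) : G)) hj
        simpa using h2
      exact eq_one_of_pow_mem hN hn hj'
    rw [hsnu, hn1, one_mul]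
    exact hu
  obtain ⟨n, hn, u, hu, hknu⟩ := mem_sup_prod hPN k.2
  refine ⟨n, hn, ?_⟩
  intro t ht
  have htK : t ∈ N ⊔ P := hTK ht
  have h1 : (⟨t, htK⟩ : (N ⊔ P : Subgroup G)) ∈ S' := hS' (Subgroup.mem_comap.mpr ht)
  rw [← hk] at h1
  have h1' : (⟨t, htK⟩ : (N ⊔ P : Subgroup G)) ∈
      MulAut.conj k • (S : Subgroup (N ⊔ P : Subgroup G)) := h1
  rw [Subgroup.mem_pointwise_smul_iff_inv_smul_mem] at h1'
  have h3 := hSP _ h1'
  have h4 : n⁻¹ * t * n = u * ((k : G)⁻¹ * t * (k : G)) * u⁻¹ := by rw [hknu]; group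
  rw [h4]
  refine P.mul_mem (P.mul_mem hu ?_) (P.inv_mem hu)
  simpa [MulAut.smul_def] using h3

/-- The factorization `x = n y` with `n ∈ C_N(d)`, `y ∈ C_N(c)`. -/
theorem exists_factor [Finite G] {p : ℕ} [Fact p.Prime] {P N : Subgroup G} (hP : IsPGroup p P)
    (hN : ¬ p ∣ Nat.card N) (hPN : P ≤ Subgroup.normalizer (N : Set G))
    {x c d : G} (hx : x ∈ N) (hc : c ∈ P) (hd : d ∈ P)
    (hT : IsPGroup p ↥(Subgroup.closure ({x * c * x⁻¹, d} : Set G))) :
    ∃ n ∈ N, ∃ y ∈ N, x = n * y ∧ d * n = n * d ∧ c * y = y * c := by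
  have hTK : Subgroup.closure ({x * c * x⁻¹, d} : Set G) ≤ N ⊔ P := by
    rw [Subgroup.closure_le]
    intro t ht
    rcases ht with rfl | rfl
    · exact Subgroup.mul_mem _ (Subgroup.mul_mem _ (Subgroup.mem_sup_left hx)
        (Subgroup.mem_sup_right hc)) (Subgroup.inv_mem _ (Subgroup.mem_sup_left hx))
    · exact Subgroup.mem_sup_right hd
  obtain ⟨n, hn, hnT⟩ := exists_conj_le hP hN hPN _ hT hTK
  have h1 : n⁻¹ * d * n ∈ P := hnT d (Subgroup.subset_closure (by simp))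
  have h2 : n⁻¹ * (x * c * x⁻¹) * n ∈ P := hnT _ (Subgroup.subset_closure (by simp))
  refine ⟨n, hn, n⁻¹ * x, N.mul_mem (N.inv_mem hn) hx, by group, ?_, ?_⟩
  · have h3 : d⁻¹ * (n⁻¹ * d * n) ∈ P := P.mul_mem (P.inv_mem hd) h1
    have h4 : d⁻¹ * (n⁻¹ * d * n) ∈ N := by
      have h5 : d⁻¹ * n⁻¹ * d⁻¹⁻¹ ∈ N :=
        (Subgroup.mem_normalizer_iff.mp (hPN (P.inv_mem hd)) n⁻¹).mp (N.inv_mem hn)
      have h6 : d⁻¹ * (n⁻¹ * d * n) = (d⁻¹ * n⁻¹ * d⁻¹⁻¹) * n := by group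
      rw [h6]; exact N.mul_mem h5 hn
    have h7 := eq_one_of_mem_of_mem hP hN h4 h3
    have h8 : d * n = n * d * (d⁻¹ * (n⁻¹ * d * n)) := by group
    rw [h8, h7, mul_one]
  · have hyN : n⁻¹ * x ∈ N := N.mul_mem (N.inv_mem hn) hx
    have h3 : (n⁻¹ * x) * c * (n⁻¹ * x)⁻¹ ∈ P := by
      have h9 : (n⁻¹ * x) * c * (n⁻¹ * x)⁻¹ = n⁻¹ * (x * c * x⁻¹) * n := by group
      rw [h9]; exact h2
    generalize n⁻¹ * x = y at hyN h3 ⊢
    have h4 : c⁻¹ * (y * c * y⁻¹) ∈ P := P.mul_mem (P.inv_mem hc) h3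
    have h5 : c⁻¹ * (y * c * y⁻¹) ∈ N := by
      have h6 : c⁻¹ * y * c⁻¹⁻¹ ∈ N :=
        (Subgroup.mem_normalizer_iff.mp (hPN (P.inv_mem hc)) y).mp hyN
      have h7 : c⁻¹ * (y * c * y⁻¹) = (c⁻¹ * y * c⁻¹⁻¹) * y⁻¹ := by group
      rw [h7]; exact N.mul_mem h6 (N.inv_mem hyN)
    have h8 := eq_one_of_mem_of_mem hP hN h5 h4
    have h9 : y * c = c * (c⁻¹ * (y * c * y⁻¹)) * y := by group
    rw [h9, h8, mul_one]

theorem closure_preimage_eq_top (P : Subgroup G) (C : Set G) (hC : Subgroup.closure C = P) :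
    Subgroup.closure (P.subtype ⁻¹' C) = ⊤ := by
  have hCP : C ⊆ P := by rw [← hC]; exact Subgroup.subset_closure
  apply Subgroup.map_injective P.subtype_injective
  rw [MonoidHom.map_closure, Set.image_preimage_eq_of_subset, hC, ← MonoidHom.range_eq_map,
    Subgroup.range_subtype]
  intro c hc
  exact ⟨⟨c, hCP hc⟩, rfl⟩

/-- The main theorem, by induction on `|N|`. -/
theorem centralizes_aux [Finite G] {p : ℕ} [Fact p.Prime] (hp2 : p ≠ 2)
    (P : Subgroup G) (hP : IsPGroup p P) (C D : Set G) (hC : Subgroup.closure C = P)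
    (hD : Subgroup.closure D = P) :
    ∀ (m : ℕ) (N : Subgroup G), Nat.card N = m → ¬ p ∣ Nat.card N →
      P ≤ Subgroup.normalizer (N : Set G) →
      (∀ x ∈ N, ∀ c ∈ C, ∀ d ∈ D,
        IsPGroup p ↥(Subgroup.closure ({x * c * x⁻¹, d} : Set G))) →
      ∀ a ∈ P, ∀ x ∈ N, a * x = x * a := by
  intro m
  induction m using Nat.strong_induction_on with
  | _ m ih =>
  intro N hm hN hPN hH
  by_contra hnc
  have hCP : C ⊆ P := by rw [← hC]; exact Subgroup.subset_closure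
  have hDP : D ⊆ P := by rw [← hD]; exact Subgroup.subset_closure
  have hprop : ∀ N₁ : Subgroup G, N₁ ≤ N → N₁ ≠ N → P ≤ Subgroup.normalizer (N₁ : Set G) →
      ∀ a ∈ P, ∀ x ∈ N₁, a * x = x * a := by
    intro N₁ hle hne hPN₁
    have hlt : Nat.card N₁ < m := by
      by_contra hge
      push Not at hge
      rw [← hm] at hge
      exact hne (Subgroup.eq_of_le_of_card_ge hle hge)
    exact ih _ hlt N₁ rfl (fun h => hN (h.trans (Subgroup.card_dvd_of_le hle))) hPN₁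
      (fun x hx => hH x (hle hx))
  have hE' : ∀ x ∈ N, ∀ c ∈ C, ∀ d ∈ D,
      ∃ n ∈ N, ∃ y ∈ N, x = n * y ∧ d * n = n * d ∧ c * y = y * c :=
    fun x hx c hc d hd => exists_factor hP hN hPN hx (hCP hc) (hDP hd) (hH x hx c hc d hd)
  have hq : ∃ q : ℕ, q.Prime ∧ IsPGroup q N := by
    by_contra hno
    apply hnc
    have hle : N ≤ N ⊓ Subgroup.centralizer (P : Set G) := by
      apply Helper48.le_of_forall_sylow_le
      intro q hq
      haveI : Fact q.Prime := ⟨hq⟩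
      obtain ⟨Q', hQ'⟩ := Helper48.exists_invariant_sylow N P hP hN hPN q
      refine ⟨Q', ?_⟩
      have hQN : (Q' : Subgroup N).map N.subtype ≤ N := by
        rintro _ ⟨y, -, rfl⟩
        exact y.2
      have hQne : (Q' : Subgroup N).map N.subtype ≠ N := by
        intro heq
        apply hno
        refine ⟨q, hq, ?_⟩
        have h1 : IsPGroup q ↥((Q' : Subgroup N).map N.subtype) := Q'.isPGroup'.map N.subtype
        rw [heq] at h1
        exact h1
      have h2 := hprop _ hQN hQne hQ'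
      intro x hx
      refine Subgroup.mem_inf.mpr ⟨hQN hx, ?_⟩
      rw [Subgroup.mem_centralizer_iff]
      intro a ha
      exact h2 a ha x hx
    intro a ha x hx
    have h3 := (Subgroup.mem_inf.mp (hle hx)).2
    rw [Subgroup.mem_centralizer_iff] at h3
    exact h3 a ha
  obtain ⟨q, hqp, hNq⟩ := hq
  haveI : Fact q.Prime := ⟨hqp⟩
  haveI : Group.IsNilpotent N := hNq.isNilpotent
  have hNbot : N ≠ ⊥ := by
    intro h
    apply hnc
    intro a ha x hx
    rw [h, Subgroup.mem_bot] at hx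
    rw [hx, mul_one, one_mul]
  haveI : Nontrivial N := (Subgroup.nontrivial_iff_ne_bot N).mpr hNbot
  have hcomm : commutator N < ⊤ := Group.IsSolvable.commutator_lt_top_of_nontrivial N
  let ψ : P →* MulAut (Abelianization N) :=
    (Helper48.abAut N).comp ((Helper48.normConj N).comp (Subgroup.inclusion hPN))
  have hψ : ∀ (a : P) (x : N), ψ a (Abelianization.of x) =
      Abelianization.of (⟨(a : G) * x * (a : G)⁻¹,
        (Subgroup.mem_normalizer_iff.mp (hPN a.2) x).mp x.2⟩ : N) := by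
    intro a x
    rfl
  have hsurj : Function.Surjective (Abelianization.of : N →* Abelianization N) :=
    QuotientGroup.mk_surjective
  have hVcard : ¬ p ∣ Nat.card (Abelianization N) :=
    fun h => hN (h.trans (Subgroup.card_dvd_of_surjective _ hsurj))
  have hpre : ∀ W : Subgroup (Abelianization N), (∀ a : P, ∀ w ∈ W, ψ a w ∈ W) → W ≠ ⊤ →
      ∀ a ∈ P, ∀ x : N, Abelianization.of x ∈ W → a * (x : G) = x * a := by
    intro W hW hWtop
    have hN₁N : (W.comap Abelianization.of).map N.subtype ≤ N := by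
      rintro _ ⟨y, -, rfl⟩
      exact y.2
    have hmem : ∀ x : N, (x : G) ∈ (W.comap Abelianization.of).map N.subtype ↔
        Abelianization.of x ∈ W := by
      intro x
      constructor
      · rintro ⟨y, hy, hyx⟩
        have h1 : y = x := Subtype.ext hyx
        rw [← h1]; exact hy
      · intro hx
        exact ⟨x, hx, rfl⟩
    have hne : (W.comap Abelianization.of).map N.subtype ≠ N := by
      intro h
      apply hWtop
      rw [eq_top_iff]
      intro w _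
      obtain ⟨x, rfl⟩ := hsurj w
      rw [← hmem, h]
      exact x.2
    have hPN₁ : P ≤ Subgroup.normalizer
        (((W.comap Abelianization.of).map N.subtype : Subgroup G) : Set G) := by
      apply le_normalizer_of_conj
      rintro a ha _ ⟨y, hy, rfl⟩
      have h1 := hW ⟨a, ha⟩ _ (Subgroup.mem_comap.mp hy)
      rw [hψ] at h1
      exact (hmem _).mpr h1
    intro a ha x hx
    exact hprop _ hN₁N hne hPN₁ a ha x ((hmem x).mpr hx)
  have hAp : IsPGroup p ψ.range := hP.of_surjective ψ.rangeRestrict ψ.rangeRestrict_surjective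
  have hbotne : (⊥ : Subgroup (Abelianization N)) ≠ ⊤ := by
    intro h
    apply hcomm.ne
    rw [eq_top_iff]
    intro x _
    have h1 : Abelianization.of x ∈ (⊥ : Subgroup (Abelianization N)) := by
      rw [h]; exact Subgroup.mem_top _
    rw [Subgroup.mem_bot] at h1
    exact (QuotientGroup.eq_one_iff x).mp h1
  by_cases hA1 : ψ.range = ⊥
  · apply hnc
    have hψ1 : ∀ a : P, ψ a = 1 := by
      intro a
      have h1 : ψ a ∈ ψ.range := ⟨a, rfl⟩
      rw [hA1, Subgroup.mem_bot] at h1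
      exact h1
    have hpre' := hpre ⊥ (fun a w hw => by
      rw [Subgroup.mem_bot] at hw ⊢
      rw [hw, map_one]) hbotne
    intro a ha x hx
    have hax : a * x * a⁻¹ ∈ N := (Subgroup.mem_normalizer_iff.mp (hPN ha) x).mp hx
    have htW : Abelianization.of ((⟨a * x * a⁻¹, hax⟩ : N) * (⟨x, hx⟩ : N)⁻¹) ∈
        (⊥ : Subgroup (Abelianization N)) := by
      rw [Subgroup.mem_bot, map_mul, map_inv]
      have h1 := hψ ⟨a, ha⟩ ⟨x, hx⟩
      rw [hψ1] at h1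
      have h2 : Abelianization.of (⟨a * x * a⁻¹, hax⟩ : N) =
          Abelianization.of (⟨x, hx⟩ : N) := h1.symm
      rw [h2, mul_inv_cancel]
    have hcomm_t : a * (a * x * a⁻¹ * x⁻¹) = (a * x * a⁻¹ * x⁻¹) * a := hpre' a ha _ htW
    have htN : a * x * a⁻¹ * x⁻¹ ∈ N := N.mul_mem hax (N.inv_mem hx)
    have h3 : a * x * a⁻¹ = (a * x * a⁻¹ * x⁻¹) * x := by group
    generalize a * x * a⁻¹ * x⁻¹ = t at hcomm_t htN h3
    have h4 : t = 1 := by
      obtain ⟨k, hk⟩ := hP ⟨a, ha⟩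
      have hk' : a ^ (p ^ k) = 1 := congrArg Subtype.val hk
      have h5 := Helper49.conj_pow_eq h3 hcomm_t (p ^ k)
      rw [hk'] at h5
      have h6 : t ^ (p ^ k) = 1 := by
        have h7 : x = t ^ (p ^ k) * x := by simpa using h5
        exact mul_eq_right.mp h7.symm
      exact eq_one_of_pow_mem hN htN h6
    rw [h4, one_mul] at h3
    calc a * x = a * x * a⁻¹ * a := by group
      _ = x * a := by rw [h3]
  · apply lemmaF hp2 hVcard ψ.range hAp hA1 ?_ (ψ '' (P.subtype ⁻¹' C)) (ψ '' (P.subtype ⁻¹' D))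
      ?_ ?_ ?_
    · intro W hW hWtop a' ha' w hw
      obtain ⟨a, rfl⟩ := ha'
      obtain ⟨x, rfl⟩ := hsurj w
      have h1 := hpre W (fun b w hw => hW (ψ b) ⟨b, rfl⟩ w hw) hWtop a a.2 x hw
      rw [hψ]
      congr 1
      apply Subtype.ext
      show (a : G) * x * (a : G)⁻¹ = x
      rw [h1]; group
    · rw [← MonoidHom.map_closure, closure_preimage_eq_top P C hC, ← MonoidHom.range_eq_map]
    · rw [← MonoidHom.map_closure, closure_preimage_eq_top P D hD, ← MonoidHom.range_eq_map]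
    · rintro v _ ⟨c, hc, rfl⟩ _ ⟨d, hd, rfl⟩
      obtain ⟨x, rfl⟩ := hsurj v
      obtain ⟨n, hn, y, hy, hxy, hdn, hcy⟩ := hE' x x.2 c hc d hd
      refine ⟨Abelianization.of ⟨n, hn⟩, Abelianization.of ⟨y, hy⟩, ?_, ?_, ?_⟩
      · rw [← map_mul]
        congr 1
        exact Subtype.ext hxy
      · rw [hψ]
        congr 1
        apply Subtype.ext
        show (d : G) * n * (d : G)⁻¹ = n
        rw [hdn]; group
      · rw [hψ]
        congr 1
        apply Subtype.ext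
        show (c : G) * y * (c : G)⁻¹ = y
        rw [hcy]; group

end concrete

end Cfsg.Agent.Lib.Helper21.TwoGen
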